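import Mathlib

/-! # Ext groups and exact adjoint functors -/

universe w w' v v' u u'

open CategoryTheory CategoryTheory.Limits CategoryTheory.Abelian

namespace Groth.Agent.SiteCoh

variable {A : Type u} [Category.{v} A] [Abelian A] {B : Type u'} [Category.{v'} B] [Abelian B]
  [HasExt.{w} A] [HasExt.{w'} B]

lemma descend {M M' : Type*} [AddCommGroup M] [AddCommGroup M'] {N N' : Type*} [AddCommGroup N] [AddCommGroup N']
    (d : M →+ N) (hd : Function.Surjective d) (d' : M' →+ N') (hd' : Function.Surjective d') (e : M ≃+ M')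
    (h : ∀ x, d x = 0 ↔ d' (e x) = 0) : Nonempty (N ≃+ N') := by
  refine ⟨((QuotientAddGroup.quotientKerEquivOfSurjective d hd).symm.trans
    ((QuotientAddGroup.congr d.ker d'.ker e ?_).trans (QuotientAddGroup.quotientKerEquivOfSurjective d' hd')))⟩
  ext y
  constructor
  · rintro ⟨x, hx, rfl⟩
    exact (h x).1 hx
  · intro hy
    exact ⟨e.symm y, (h _).2 (by rw [e.apply_symm_apply]; exact hy), e.apply_symm_apply y⟩

lemma extClass_surjective {S : ShortComplex A} (hS : S.ShortExact) (X : A) (n : ℕ)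
    (h : Subsingleton (Ext.{w} X S.X₂ (n + 1))) :
    Function.Surjective (hS.extClass.postcomp X (rfl : n + 1 = n + 1)) := fun x =>
  Ext.covariant_sequence_exact₁ X hS x (Subsingleton.elim _ _) rfl

lemma extClass_ker {S : ShortComplex A} (hS : S.ShortExact) (X : A) (n : ℕ) (x : Ext.{w} X S.X₃ n) :
    hS.extClass.postcomp X (rfl : n + 1 = n + 1) x = 0 ↔
      ∃ y : Ext.{w} X S.X₂ n, y.comp (Ext.mk₀ S.g) (add_zero n) = x := by
  refine ⟨fun hx => Ext.covariant_sequence_exact₃ X hS x rfl hx, ?_⟩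
  rintro ⟨y, rfl⟩
  show (y.comp (Ext.mk₀ S.g) (add_zero n)).comp hS.extClass rfl = 0
  rw [Ext.comp_assoc_of_second_deg_zero, ShortComplex.ShortExact.comp_extClass, Ext.comp_zero]

/-- `Ext(L X, Y) ≅ Ext(X, R Y)` for an exact left adjoint `L` and an exact right adjoint `R`. -/
theorem nonempty_extAdjEquiv [EnoughInjectives A] {L : B ⥤ A} {R : A ⥤ B} (adj : L ⊣ R) [L.Additive]
    [R.Additive] [PreservesFiniteLimits L] [PreservesFiniteColimits R] (X : B) (n : ℕ) :
    ∀ Y : A, Nonempty (Ext.{w} (L.obj X) Y n ≃+ Ext.{w'} X (R.obj Y) n) := by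
  haveI := adj.leftAdjoint_preservesColimits
  haveI := adj.rightAdjoint_preservesLimits
  haveI : PreservesFiniteLimits R := PreservesLimitsOfSize.preservesFiniteLimits.{0, 0} R
  haveI : L.PreservesMonomorphisms := preservesMonomorphisms_of_preservesLimitsOfShape L
  haveI : PreservesFiniteColimits L := PreservesColimitsOfSize.preservesFiniteColimits.{0, 0} L
  induction n with
  | zero =>
    exact fun Y => ⟨Ext.addEquiv₀.trans ((adj.homAddEquiv X Y).trans Ext.addEquiv₀.symm)⟩
  | succ n ih =>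
    intro Y
    let S := ShortComplex.mk (Injective.ι Y) (cokernel.π _) (cokernel.condition _)
    have hS : S.ShortExact := { exact := ShortComplex.exact_cokernel _ }
    have hS' : (S.map R).ShortExact := hS.map_of_exact R
    haveI : Injective (S.map R).X₂ := Injective.injective_of_adjoint adj (Injective.under Y)
    haveI : Injective S.X₂ := inferInstanceAs (Injective (Injective.under Y))
    have h1 := Ext.subsingleton_of_injective.{w} (L.obj X) S.X₂ n
    have h2 := Ext.subsingleton_of_injective.{w'} X (S.map R).X₂ n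
    obtain ⟨e, he⟩ : ∃ e : Ext.{w} (L.obj X) S.X₃ n ≃+ Ext.{w'} X (S.map R).X₃ n,
        ∀ x, (∃ y : Ext.{w} (L.obj X) S.X₂ n, y.comp (Ext.mk₀ S.g) (add_zero n) = x) ↔
          (∃ y : Ext.{w'} X (S.map R).X₂ n, y.comp (Ext.mk₀ (S.map R).g) (add_zero n) = e x) := by
      cases n with
      | zero =>
        let e₀ : Ext.{w} (L.obj X) S.X₃ 0 ≃+ Ext.{w'} X (S.map R).X₃ 0 :=
          Ext.addEquiv₀.trans ((adj.homAddEquiv X S.X₃).trans Ext.addEquiv₀.symm)
        have hex : ∀ f : L.obj X ⟶ S.X₃, e₀ (Ext.mk₀ f) = Ext.mk₀ (adj.homEquiv X S.X₃ f) := fun f =>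
          congrArg (fun t => Ext.mk₀ (adj.homEquiv X S.X₃ t)) (Ext.addEquiv₀.apply_symm_apply f)
        refine ⟨e₀, fun x => ?_⟩
        obtain ⟨f, rfl⟩ : ∃ f, Ext.mk₀ f = x := ⟨_, Ext.addEquiv₀.symm_apply_apply x⟩
        rw [hex]
        constructor
        · rintro ⟨y, hy⟩
          obtain ⟨g, rfl⟩ : ∃ g, Ext.mk₀ g = y := ⟨_, Ext.addEquiv₀.symm_apply_apply y⟩
          have hg : g ≫ S.g = f := Ext.addEquiv₀.symm.injective ((Ext.mk₀_comp_mk₀ g S.g).symm.trans hy)
          exact ⟨Ext.mk₀ (adj.homEquiv X S.X₂ g), (Ext.mk₀_comp_mk₀ _ _).trans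
            (congrArg Ext.mk₀ ((adj.homEquiv_naturality_right g S.g).symm.trans (by rw [hg])))⟩
        · rintro ⟨y, hy⟩
          obtain ⟨g, rfl⟩ : ∃ g, Ext.mk₀ g = y := ⟨_, Ext.addEquiv₀.symm_apply_apply y⟩
          have hg : (show X ⟶ R.obj S.X₂ from g) ≫ R.map S.g = adj.homEquiv X S.X₃ f :=
            Ext.addEquiv₀.symm.injective ((Ext.mk₀_comp_mk₀ g (S.map R).g).symm.trans hy)
          refine ⟨Ext.mk₀ ((adj.homEquiv X S.X₂).symm g), (Ext.mk₀_comp_mk₀ _ _).trans (congrArg Ext.mk₀ ?_)⟩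
          refine (adj.homEquiv_naturality_right_symm (show X ⟶ R.obj S.X₂ from g) S.g).symm.trans ?_
          exact (congrArg (adj.homEquiv X S.X₃).symm hg).trans (Equiv.symm_apply_apply _ f)
      | succ m =>
        obtain ⟨e⟩ := ih S.X₃
        refine ⟨e, fun x => ?_⟩
        haveI := Ext.subsingleton_of_injective.{w} (L.obj X) S.X₂ m
        haveI := Ext.subsingleton_of_injective.{w'} X (S.map R).X₂ m
        constructor
        · rintro ⟨y, rfl⟩
          exact ⟨0, by rw [Subsingleton.elim y 0, Ext.zero_comp, Ext.zero_comp, map_zero]⟩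
        · rintro ⟨y, hy⟩
          refine ⟨0, e.injective ?_⟩
          rw [Subsingleton.elim y 0, Ext.zero_comp] at hy
          rw [Ext.zero_comp, map_zero]
          exact hy
    exact descend _ (extClass_surjective hS (L.obj X) n h1) _ (extClass_surjective hS' X n h2) e fun x =>
      (extClass_ker hS _ _ x).trans ((he x).trans (extClass_ker hS' _ _ _).symm)

end Groth.Agent.SiteCoh
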