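import Groth.Agent.CompDerived.Basic
import Mathlib.CategoryTheory.Abelian.Exact
import Mathlib.Algebra.Homology.DerivedCategory.Ext.Map
import Mathlib.Algebra.Homology.DerivedCategory.Ext.ExactSequences
import Mathlib.Algebra.Homology.DerivedCategory.Ext.EnoughInjectives
import Mathlib.CategoryTheory.Adjunction.Additive

/-! # Degenerate Leray: `Ext(X, R M) → Ext(X', M)` is bijective for `R`-acyclic `M` -/

universe w w' v v' u u'

set_option backward.isDefEq.respectTransparency.types false

open CategoryTheory CategoryTheory.Limits CategoryTheory.Abelian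

namespace Groth.Agent.SiteCoh

variable {A : Type u} [Category.{v} A] [Abelian A] [EnoughInjectives A] [HasExt.{w} A]
  {B : Type u'} [Category.{v'} B] [Abelian B] [HasExt.{w'} B]
  {L : B ⥤ A} [L.Additive] [PreservesFiniteLimits L] [PreservesFiniteColimits L]
  {R : A ⥤ B} [R.Additive] [PreservesFiniteLimits R]
  (adj : L ⊣ R) {X : B} {X' : A} (i : X' ≅ L.obj X)

/-- map along an exact functor, precompose, apply the counit -/
noncomputable def adjMap (M : A) (n : ℕ) (x : Ext.{w'} X (R.obj M) n) : Ext.{w} X' M n :=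
  ((Ext.mk₀ i.hom).comp (x.mapExactFunctor L) (zero_add n)).comp (Ext.mk₀ (adj.counit.app M)) (add_zero n)

theorem adjMap_zero_bijective (M : A) : Function.Bijective (adjMap adj i M 0) := by
  have key : ∀ φ : X ⟶ R.obj M,
      adjMap adj i M 0 (Ext.mk₀ φ) = Ext.mk₀ (i.hom ≫ (adj.homEquiv X M).symm φ) := fun φ => by
    rw [adjMap, Ext.mapExactFunctor_mk₀, Ext.mk₀_comp_mk₀, Ext.mk₀_comp_mk₀, Adjunction.homEquiv_counit,
      Category.assoc]
  constructor
  · intro x y h
    obtain ⟨φ, rfl⟩ := (Ext.mk₀_bijective _ _).2 x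
    obtain ⟨ψ, rfl⟩ := (Ext.mk₀_bijective _ _).2 y
    rw [key, key] at h
    exact congrArg Ext.mk₀ ((adj.homEquiv X M).symm.injective
      ((cancel_epi i.hom).1 ((Ext.mk₀_bijective _ _).1 h)))
  · intro y
    obtain ⟨ψ, rfl⟩ := (Ext.mk₀_bijective _ _).2 y
    exact ⟨Ext.mk₀ (adj.homEquiv X M (i.inv ≫ ψ)), by
      rw [key, Equiv.symm_apply_apply, Iso.hom_inv_id_assoc]⟩

theorem adjMap_naturality {M N : A} (g : M ⟶ N) (n : ℕ) (x : Ext.{w'} X (R.obj M) n) :
    adjMap adj i N n (x.comp (Ext.mk₀ (R.map g)) (add_zero n)) =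
      (adjMap adj i M n x).comp (Ext.mk₀ g) (add_zero n) := by
  simp only [adjMap, Ext.mapExactFunctor_comp, Ext.mapExactFunctor_mk₀]
  rw [← Ext.comp_assoc_of_third_deg_zero, Ext.comp_assoc_of_second_deg_zero, Ext.mk₀_comp_mk₀,
    Ext.comp_assoc_of_second_deg_zero (β := Ext.mk₀ (adj.counit.app M)), Ext.mk₀_comp_mk₀]
  exact congrArg (fun k => _root_.CategoryTheory.Abelian.Ext.comp _ (Ext.mk₀ k) (add_zero n))
    (adj.counit.naturality g)

omit [EnoughInjectives A] in
theorem adjMap_extClass {S : ShortComplex A} (hS : S.ShortExact) (hT : (S.map R).ShortExact)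
    (n : ℕ) (x : Ext.{w'} X (R.obj S.X₃) n) :
    adjMap adj i S.X₁ (n + 1) (x.comp hT.extClass rfl) =
      (adjMap adj i S.X₃ n x).comp hS.extClass rfl := by
  let φ : (S.map R).map L ⟶ S :=
    { τ₁ := adj.counit.app _, τ₂ := adj.counit.app _, τ₃ := adj.counit.app _
      comm₁₂ := (adj.counit.naturality S.f).symm
      comm₂₃ := (adj.counit.naturality S.g).symm }
  have hnat : (hT.map_of_exact L).extClass.comp (Ext.mk₀ (adj.counit.app S.X₁)) (add_zero 1) =
      (Ext.mk₀ (adj.counit.app S.X₃)).comp hS.extClass (zero_add 1) :=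
    ShortComplex.ShortExact.extClass_naturality (hT.map_of_exact L) hS φ
  have h1 : hT.extClass.mapExactFunctor L = (hT.map_of_exact L).extClass :=
    Ext.mapExactFunctor_extClass L hT
  have h2 : (x.comp hT.extClass rfl).mapExactFunctor L =
      (x.mapExactFunctor L).comp (hT.map_of_exact L).extClass rfl :=
    (Ext.mapExactFunctor_comp L x hT.extClass rfl).trans
      (congrArg (fun e => (x.mapExactFunctor L).comp e rfl) h1)
  refine (congrArg (fun e => ((Ext.mk₀ i.hom).comp e (zero_add (n + 1))).comp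
    (Ext.mk₀ (adj.counit.app S.X₁)) (add_zero (n + 1))) h2).trans ?_
  refine (congrArg (fun e => Ext.comp e (Ext.mk₀ (adj.counit.app S.X₁)) (add_zero (n + 1)))
    (Ext.comp_assoc (Ext.mk₀ i.hom) (x.mapExactFunctor L) (hT.map_of_exact L).extClass
      (zero_add n) (rfl : n + 1 = n + 1) (by omega)).symm).trans ?_
  refine (Ext.comp_assoc_of_third_deg_zero _ _ _ rfl).trans ?_
  refine (congrArg (fun e => ((Ext.mk₀ i.hom).comp (x.mapExactFunctor L) (zero_add n)).comp e rfl) hnat).trans ?_
  exact (Ext.comp_assoc_of_second_deg_zero _ _ _ rfl).symm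

/-- degenerate Leray -/
theorem adjMap_bijective : ∀ (n : ℕ) (M : A),
    (∀ q, IsZero ((R.rightDerived (q + 1)).obj M)) → Function.Bijective (adjMap adj i M n) := by
  intro n
  induction n with
  | zero => exact fun M _ => adjMap_zero_bijective adj i M
  | succ n ih =>
    intro M hM
    let S := ShortComplex.mk (Injective.ι M) (cokernel.π (Injective.ι M)) (cokernel.condition _)
    have hS : S.ShortExact :=
      { exact := S.exact_of_g_is_cokernel (cokernelIsCokernel _)
        mono_f := inferInstanceAs (Mono (Injective.ι M))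
        epi_g := inferInstanceAs (Epi (cokernel.π (Injective.ι M))) }
    haveI hI : Injective S.X₂ := inferInstanceAs (Injective (Injective.under M))
    have hI₂ : ∀ q, IsZero ((R.rightDerived (q + 1)).obj S.X₂) :=
      fun q => R.isZero_rightDerived_obj_injective_succ q _
    have hQ : ∀ q, IsZero ((R.rightDerived (q + 1)).obj S.X₃) := fun q =>
      IsZero.of_iso (hM (q + 1)) (CompDerived.nonempty_shiftIso R hS hI₂ q).some
    have hT : (S.map R).ShortExact := CompDerived.shortExact_map R hS (hM 0)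
    haveI : L.PreservesMonomorphisms := preservesMonomorphisms_of_preservesLimitsOfShape L
    haveI : Injective (S.map R).X₂ := Injective.injective_of_adjoint adj S.X₂
    have hA : Subsingleton (Ext.{w} X' S.X₂ (n + 1)) := Ext.subsingleton_of_injective _ _ n
    have hB : Subsingleton (Ext.{w'} X (S.map R).X₂ (n + 1)) :=
      subsingleton_of_forall_eq 0 fun x => Ext.eq_zero_of_injective x
    have sA : ∀ z : Ext.{w} X' S.X₁ (n + 1), ∃ y : Ext.{w} X' S.X₃ n, y.comp hS.extClass rfl = z :=
      fun z => Ext.covariant_sequence_exact₁ X' hS z (Subsingleton.elim _ _) rfl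
    have sB : ∀ z : Ext.{w'} X (S.map R).X₁ (n + 1),
        ∃ y : Ext.{w'} X (S.map R).X₃ n, y.comp hT.extClass rfl = z :=
      fun z => Ext.covariant_sequence_exact₁ X hT z (Subsingleton.elim _ _) rfl
    refine ⟨fun x x' hxx' => ?_, fun z => ?_⟩
    · obtain ⟨(y : Ext.{w'} X (R.obj S.X₃) n), rfl⟩ := sB x
      obtain ⟨(y' : Ext.{w'} X (R.obj S.X₃) n), rfl⟩ := sB x'
      have hxx' : (adjMap adj i S.X₃ n y).comp hS.extClass rfl = (adjMap adj i S.X₃ n y').comp hS.extClass rfl :=
        (adjMap_extClass adj i hS hT n y).symm.trans (hxx'.trans (adjMap_extClass adj i hS hT n y'))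
      have h0 : (adjMap adj i S.X₃ n y - adjMap adj i S.X₃ n y').comp hS.extClass rfl = 0 := by
        rw [sub_eq_add_neg, Ext.add_comp, Ext.neg_comp, hxx', add_neg_cancel]
      obtain ⟨z, hz⟩ := Ext.covariant_sequence_exact₃ X' hS _ rfl h0
      obtain ⟨w, rfl⟩ := (ih S.X₂ hI₂).2 z
      rw [← adjMap_naturality] at hz
      have hadd : ∀ a b : Ext.{w'} X (R.obj S.X₃) n,
          adjMap adj i S.X₃ n (a + b) = adjMap adj i S.X₃ n a + adjMap adj i S.X₃ n b := fun a b => by
        simp [adjMap, Ext.mapExactFunctor_add, Ext.comp_add, Ext.add_comp]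
      have hy : y = w.comp (Ext.mk₀ (R.map S.g)) (add_zero n) + y' := (ih S.X₃ hQ).1 (by
        rw [hadd, hz, sub_add_cancel])
      subst hy
      refine (Ext.add_comp _ _ hT.extClass rfl).trans ?_
      refine (congrArg (· + _) ((Ext.comp_assoc_of_second_deg_zero w (Ext.mk₀ (S.map R).g) hT.extClass rfl).trans
        ((congrArg (fun e => w.comp e rfl) hT.comp_extClass).trans (Ext.comp_zero _ _ _ _ _)))).trans (zero_add _)
    · obtain ⟨y, rfl⟩ := sA z
      obtain ⟨x, rfl⟩ := (ih S.X₃ hQ).2 y
      exact ⟨x.comp hT.extClass rfl, adjMap_extClass adj i hS hT n x⟩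

end Groth.Agent.SiteCoh
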