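import Mathlib
import Groth.Agent.SiteBase.ExtZero
import Groth.Agent.DerCat.KInjLib

/-! # Exactness of extension by zero for abelian sheaves on `C/U` -/

universe u

open CategoryTheory CategoryTheory.Limits Opposite

namespace Groth.Agent.SiteCoh.OverExact

variable {C : Type u} [SmallCategory C] (U : C)

/-- the discrete category of maps to `U` inside the costructured arrows -/
def discIncl (V : C) : Discrete (V ⟶ U) ⥤ CostructuredArrow (Over.forget U).op (op V) :=
  Discrete.functor fun g => CostructuredArrow.mk (S := (Over.forget U).op) (Y := op (Over.mk g)) (𝟙 (op V))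

/-- the retraction onto maps to `U` -/
def discRetr (V : C) : CostructuredArrow (Over.forget U).op (op V) ⥤ Discrete (V ⟶ U) where
  obj d := ⟨d.hom.unop ≫ d.left.unop.hom⟩
  map {d d'} φ := Discrete.eqToHom (by
    have h := congrArg Quiver.Hom.unop (CostructuredArrow.w φ)
    simp only [Functor.op_map, unop_comp, Quiver.Hom.unop_op] at h
    rw [← h, Category.assoc]
    exact congrArg (d'.hom.unop ≫ ·) (Over.w φ.left.unop))
  map_id _ := Subsingleton.elim _ _
  map_comp _ _ := Subsingleton.elim _ _

instance (V : C) (d : CostructuredArrow (Over.forget U).op (op V)) (g : Discrete (V ⟶ U)) :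
    Subsingleton (d ⟶ (discIncl U V).obj g) := ⟨fun a b => by
  have key : ∀ c : d ⟶ (discIncl U V).obj g, c.left.unop.left = d.hom.unop := fun c => by
    have h := congrArg Quiver.Hom.unop (CostructuredArrow.w c)
    simpa [discIncl] using h
  exact CostructuredArrow.hom_ext _ _ (Quiver.Hom.unop_inj (Over.OverMorphism.ext ((key a).trans (key b).symm)))⟩

/-- the adjunction -/
noncomputable def discAdj (V : C) : discRetr U V ⊣ discIncl U V :=
  Adjunction.mkOfHomEquiv
    { homEquiv := fun d g =>
        { toFun := fun e => CostructuredArrow.homMk
            (Over.homMk (U := Over.mk g.as) (V := d.left.unop) d.hom.unop (Discrete.eq_of_hom e)).op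
            (Quiver.Hom.unop_inj (by simp [discIncl]))
          invFun := fun c => Discrete.eqToHom (by
            have h : c.left.unop.left = d.hom.unop := by
              have := congrArg Quiver.Hom.unop (CostructuredArrow.w c)
              simpa [discIncl] using this
            have hw := Over.w c.left.unop
            rw [h] at hw
            exact hw)
          left_inv := fun _ => Subsingleton.elim _ _
          right_inv := fun _ => Subsingleton.elim _ _ }
      homEquiv_naturality_left_symm := fun _ _ => Subsingleton.elim _ _
      homEquiv_naturality_right := fun _ _ => Subsingleton.elim _ _ }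

instance (V : C) : (discIncl U V).Final := Functor.final_of_adjunction (discAdj U V)

lemma mono_map_of_natIso {A B : Type*} [Category* A] [Category* B] {F G : A ⥤ B} (e : F ≅ G) {X Y : A}
    (f : X ⟶ Y) (h : Mono (F.map f)) : Mono (G.map f) := by
  rw [← NatIso.naturality_1 e f]
  infer_instance

instance lan_preservesMonomorphisms :
    ((Over.forget U).op.lan : ((Over U)ᵒᵖ ⥤ AddCommGrpCat.{u}) ⥤ _).PreservesMonomorphisms where
  preserves {P Q} f _ := by
    haveI : ∀ V : Cᵒᵖ, Mono (((Over.forget U).op.lan.map f).app V) := by
      rintro ⟨V⟩
      let e := lanEvaluationIsoColim (E := AddCommGrpCat.{u}) (Over.forget U).op (op V)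
      let Φ := (Functor.whiskeringLeft _ _ AddCommGrpCat.{u}).obj
        (CostructuredArrow.proj (Over.forget U).op (op V))
      haveI : Mono (Functor.whiskerLeft (discIncl U V) (Φ.map f)) :=
        @NatTrans.mono_of_mono_app _ _ _ _ _ _ _ (fun g => by
          show Mono (f.app _)
          infer_instance)
      haveI : Mono (colimMap (Functor.whiskerLeft (discIncl U V) (Φ.map f))) :=
        (colim : (Discrete (V ⟶ U) ⥤ AddCommGrpCat.{u}) ⥤ _).map_mono _
      have h2 : Mono ((colim : (CostructuredArrow (Over.forget U).op (op V) ⥤ AddCommGrpCat.{u}) ⥤ _).map (Φ.map f)) :=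
        mono_map_of_natIso (Functor.Final.colimIso (discIncl U V) (E := AddCommGrpCat.{u})) (Φ.map f)
          (show Mono (colimMap (Functor.whiskerLeft (discIncl U V) (Φ.map f))) from inferInstance)
      exact mono_map_of_natIso e.symm f h2
    exact NatTrans.mono_of_mono_app _

variable (J : GrothendieckTopology C)

theorem sheafPullback_over_preservesFiniteLimits :
    PreservesFiniteLimits ((Over.forget U).sheafPullback AddCommGrpCat.{u} (J.over U) J) := by
  let adj := (Over.forget U).sheafAdjunctionContinuous AddCommGrpCat.{u} (J.over U) J
  haveI := adj.leftAdjoint_preservesColimits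
  haveI : (sheafToPresheaf (J.over U) AddCommGrpCat.{u}).PreservesMonomorphisms :=
    Functor.preservesMonomorphisms_of_adjunction (sheafificationAdjunction _ _)
  haveI : (presheafToSheaf J AddCommGrpCat.{u}).PreservesMonomorphisms :=
    preservesMonomorphisms_of_preservesLimitsOfShape _
  haveI : (Functor.sheafPullbackConstruction.sheafPullback (Over.forget U) AddCommGrpCat.{u} (J.over U) J).PreservesMonomorphisms := by
    unfold Functor.sheafPullbackConstruction.sheafPullback
    infer_instance
  haveI : ((Over.forget U).sheafPullback AddCommGrpCat.{u} (J.over U) J).PreservesMonomorphisms :=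
    Functor.PreservesMonomorphisms.of_iso
      (Functor.sheafPullbackConstruction.sheafPullbackIso (Over.forget U) AddCommGrpCat.{u} (J.over U) J).symm
  exact Groth.Agent.SiteBase.preservesFiniteLimits_of_preservesMono _

end Groth.Agent.SiteCoh.OverExact
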