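import Groth.Agent.CohAcyc.Basic
import Mathlib.CategoryTheory.Abelian.Injective.Ext
import Groth.Prelude.Def_CohSite

/-! # The cohomology presheaf via an injective resolution (general sites) -/

noncomputable section

universe u

open CategoryTheory Limits Opposite

namespace Groth.Agent.SiteCoh

open Groth.Agent.CohAcyc (Ab)

variable {C : Type u} [SmallCategory C] {J : GrothendieckTopology C}

/-- The free abelian presheaf on an open. -/
abbrev freePre (U : C) : Cᵒᵖ ⥤ AddCommGrpCat.{u} :=
  yoneda.obj U ⋙ AddCommGrpCat.free.{u}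

/-- The free abelian sheaf on an open. -/
abbrev free (U : C) : Ab J :=
  (presheafToSheaf J AddCommGrpCat.{u}).obj (freePre U)

/-- The tautological section of the free abelian sheaf. -/
def gen (U : C) : (free (J := J) U).obj.obj (op U) :=
  (toSheafify J (freePre U)).app (op U) (FreeAbelianGroup.of (𝟙 U))

/-- Evaluation at the tautological section. -/
def secHom (F : Ab J) (U : C) : (free U ⟶ F) →+ F.obj.obj (op U) where
  toFun φ := φ.hom.app (op U) (gen U)
  map_zero' := rfl
  map_add' _ _ := rfl

/-- The map from the free presheaf given by a section. -/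
def ofSec (P : Cᵒᵖ ⥤ AddCommGrpCat.{u}) {U : C} (s : P.obj (op U)) :
    freePre U ⟶ P where
  app V := AddCommGrpCat.ofHom (FreeAbelianGroup.lift fun g : V.unop ⟶ U => P.map g.op s)
  naturality V W h := by
    apply AddCommGrpCat.hom_ext
    apply FreeAbelianGroup.lift_ext
    intro g
    refine (congrArg (FreeAbelianGroup.lift _) (FreeAbelianGroup.map_of_apply _)).trans ?_
    refine (FreeAbelianGroup.lift_apply_of _ _).trans ?_
    refine Eq.trans ?_ (congrArg (P.map h) (FreeAbelianGroup.lift_apply_of
      (fun g : V.unop ⟶ U => P.map g.op s) g)).symm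
    rw [← ConcreteCategory.comp_apply, ← P.map_comp]
    rfl

lemma secHom_bijective (F : Ab J) (U : C) : Function.Bijective (secHom F U) := by
  constructor
  · intro φ ψ h
    apply CategoryTheory.Sheaf.hom_ext
    apply sheafify_hom_ext _ _ _ F.property
    ext1
    ext1 V
    apply AddCommGrpCat.hom_ext
    apply FreeAbelianGroup.lift_ext
    intro g
    have hg : FreeAbelianGroup.of g = (freePre U).map g.op (FreeAbelianGroup.of (𝟙 U)) :=
      (congrArg FreeAbelianGroup.of (Category.comp_id g).symm).trans
        (FreeAbelianGroup.map_of_apply _).symm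
    have key : ∀ φ : free U ⟶ F,
        (toSheafify _ (freePre U) ≫ φ.hom).app V (FreeAbelianGroup.of g) =
          F.obj.map g.op (secHom F U φ) := fun φ => by
      rw [hg]
      exact ConcreteCategory.congr_hom ((toSheafify _ (freePre U) ≫ φ.hom).naturality g.op) _
    exact (key φ).trans ((congrArg (F.obj.map g.op) h).trans (key ψ).symm)
  · intro s
    refine ⟨⟨sheafifyLift _ (ofSec F.obj s) F.property⟩, ?_⟩
    refine (ConcreteCategory.congr_hom (congrArg (fun m : freePre U ⟶ F.obj => m.app (op U))
      (toSheafify_sheafifyLift _ (ofSec F.obj s) F.property)) (FreeAbelianGroup.of (𝟙 U))).trans ?_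
    refine (FreeAbelianGroup.lift_apply_of _ _).trans ?_
    exact ConcreteCategory.congr_hom (F.obj.map_id (op U)) s

/-- Maps out of the free abelian sheaf on an open are sections. -/
def secEquiv (F : Ab J) (U : C) : (free U ⟶ F) ≃+ F.obj.obj (op U) :=
  AddEquiv.ofBijective (secHom F U) (secHom_bijective F U)

/-- The map of free sheaves of an inclusion. -/
abbrev freeMap {U V : C} (g : V ⟶ U) : free (J := J) V ⟶ free U :=
  (presheafToSheaf J AddCommGrpCat.{u}).map
    (Functor.whiskerRight (yoneda.map g) AddCommGrpCat.free.{u})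

lemma secHom_freeMap {F : Ab J} {U V : C} (g : V ⟶ U) (φ : free U ⟶ F) :
    secHom F V (freeMap g ≫ φ) = F.obj.map g.op (secHom F U φ) := by
  have h1 : (freeMap (J := J) g).hom.app (op V) (gen (J := J) V) = (free (J := J) U).obj.map g.op (gen U) := by
    refine (ConcreteCategory.congr_hom (congrArg (fun m => NatTrans.app m (op V))
      (toSheafify_naturality J
        (Functor.whiskerRight (yoneda.map g) AddCommGrpCat.free.{u})))
      (FreeAbelianGroup.of (𝟙 V))).symm.trans ?_
    refine Eq.trans ?_ (ConcreteCategory.congr_hom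
      ((toSheafify J (freePre U)).naturality g.op) _)
    exact congrArg ((toSheafify _ (freePre U)).app (op V))
      ((FreeAbelianGroup.map_of_apply _).trans
        ((congrArg FreeAbelianGroup.of ((Category.id_comp g).trans (Category.comp_id g).symm)).trans
          (FreeAbelianGroup.map_of_apply _).symm))
  exact (congrArg (φ.hom.app (op V)) h1).trans
    (ConcreteCategory.congr_hom (φ.hom.naturality g.op) (gen U))

variable {F : Ab J} (R : InjectiveResolution F) (n : ℕ)

/-- The complex of presheaves underlying a resolution. -/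
abbrev preCx : CochainComplex (Cᵒᵖ ⥤ AddCommGrpCat.{u}) ℕ :=
  ((sheafToPresheaf J AddCommGrpCat.{u}).mapHomologicalComplex _).obj
    R.cocomplex

lemma exists_secHom_cycle (V : C) (z : ((preCx R).cycles n).obj (op V)) :
    ∃ φ : free V ⟶ R.cocomplex.X n, secHom _ V φ = ((preCx R).iCycles n).app (op V) z ∧
      φ ≫ R.cocomplex.d n (n + 1) = 0 := by
  obtain ⟨φ, hφ⟩ := (secHom_bijective (R.cocomplex.X n) V).2 (((preCx R).iCycles n).app (op V) z)
  refine ⟨φ, hφ, (secHom_bijective (R.cocomplex.X (n + 1)) V).1 ?_⟩
  refine (congrArg ((R.cocomplex.d n (n + 1)).hom.app (op V)) hφ).trans ?_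
  exact (ConcreteCategory.congr_hom (congrArg (fun m => NatTrans.app m (op V))
    ((preCx R).iCycles_d n (n + 1))) z).trans (map_zero _).symm

/-- A choice of map out of the free sheaf for a cycle. -/
def cycMor (V : C) (z : ((preCx R).cycles n).obj (op V)) : free V ⟶ R.cocomplex.X n :=
  (exists_secHom_cycle R n V z).choose

lemma secHom_cycMor (V : C) (z : ((preCx R).cycles n).obj (op V)) :
    secHom _ V (cycMor R n V z) = ((preCx R).iCycles n).app (op V) z :=
  (exists_secHom_cycle R n V z).choose_spec.1

lemma cycMor_d (V : C) (z : ((preCx R).cycles n).obj (op V)) :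
    cycMor R n V z ≫ R.cocomplex.d n (n + 1) = 0 :=
  (exists_secHom_cycle R n V z).choose_spec.2

lemma extMk_congr {V : C} {f g : free V ⟶ R.cocomplex.X n}
    (hf : f ≫ R.cocomplex.d n (n + 1) = 0) (hg : g ≫ R.cocomplex.d n (n + 1) = 0)
    (h : secHom _ V f = secHom _ V g) : R.extMk f (n + 1) rfl hf = R.extMk g (n + 1) rfl hg := by
  obtain rfl := (secHom_bijective _ V).1 h
  rfl

/-- The class of a cycle. -/
def cycClass (V : C) : ((preCx R).cycles n).obj (op V) →+ CohSite.HU F n V :=
  AddMonoidHom.mk' (fun z => R.extMk (cycMor R n V z) (n + 1) rfl (cycMor_d R n V z)) fun a b => by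
    refine Eq.trans ?_ (R.add_extMk _ _ _ rfl (cycMor_d R n V a) (cycMor_d R n V b)).symm
    congr 1
    apply (secHom_bijective _ V).1
    rw [map_add, secHom_cycMor, secHom_cycMor, secHom_cycMor, map_add]
    rfl

/-- The map from cycles to the cohomology presheaf. -/
def cycToCoh : (preCx R).cycles n ⟶ Sheaf.cohomologyPresheaf.{u} F n where
  app V := AddCommGrpCat.ofHom (cycClass R n V.unop)
  naturality V W g := by
    ext z
    refine Eq.trans ?_ (R.mk₀_comp_extMk _ (n + 1) rfl (cycMor_d R n V.unop z) (freeMap g.unop)).symm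
    refine extMk_congr R n (cycMor_d R n _ _) _ ?_
    rw [secHom_cycMor, secHom_freeMap, secHom_cycMor]
    exact ConcreteCategory.congr_hom (((preCx R).iCycles n).naturality g) z

lemma toCycles_cycToCoh (k : ℕ) (hk : (ComplexShape.up ℕ).prev n = k) :
    (preCx R).toCycles k n ≫ cycToCoh R n = 0 := by
  ext V x
  change cycClass R n V.unop (((preCx R).toCycles k n).app V x) = 0
  obtain rfl | ⟨p, rfl⟩ : n = 0 ∨ ∃ p, n = p + 1 := by cases n <;> simp
  · have : (preCx R).toCycles k 0 = 0 := by
      rw [← cancel_mono ((preCx R).iCycles 0), HomologicalComplex.toCycles_i, zero_comp]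
      exact (preCx R).shape _ _ (by simp)
    rw [this]
    exact (cycClass R 0 V.unop).map_zero
  · obtain rfl : p = k := by
      rw [← hk, CochainComplex.prev_nat_succ]
    refine (R.extMk_eq_zero_iff _ _ rfl (cycMor_d R (p + 1) V.unop _) p rfl).2 ?_
    obtain ⟨g, hg⟩ := (secHom_bijective (R.cocomplex.X p) V.unop).2 x
    refine ⟨g, (secHom_bijective _ V.unop).1 ?_⟩
    rw [secHom_cycMor]
    refine (congrArg ((R.cocomplex.d p (p + 1)).hom.app V) hg).trans ?_
    exact (ConcreteCategory.congr_hom (congrArg (fun m => NatTrans.app m V)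
      ((preCx R).toCycles_i p (p + 1))) x).symm

/-- The map from presheaf homology to the cohomology presheaf. -/
def homToCoh : (preCx R).homology n ⟶ Sheaf.cohomologyPresheaf.{u} F n :=
  (CokernelCofork.IsColimit.desc' ((preCx R).homologyIsCokernel _ n rfl) (cycToCoh R n)
    (toCycles_cycToCoh R n _ rfl)).1

lemma homologyπ_homToCoh : (preCx R).homologyπ n ≫ homToCoh R n = cycToCoh R n :=
  (CokernelCofork.IsColimit.desc' ((preCx R).homologyIsCokernel _ n rfl) (cycToCoh R n)
    (toCycles_cycToCoh R n _ rfl)).2

lemma homToCoh_bijective (V : C) : Function.Bijective ((homToCoh R n).app (op V)) := by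
  have hπ : Function.Surjective (((preCx R).homologyπ n).app (op V)) :=
    (AddCommGrpCat.epi_iff_surjective _).1 (NatTrans.epi_iff_epi_app _ |>.1 inferInstance (op V))
  have hcomp : ∀ z, (homToCoh R n).app (op V) (((preCx R).homologyπ n).app (op V) z) =
      cycClass R n V z := fun z =>
    ConcreteCategory.congr_hom (congrArg (fun m => NatTrans.app m (op V)) (homologyπ_homToCoh R n)) z
  have hi : Function.Injective (((preCx R).iCycles n).app (op V)) :=
    (AddCommGrpCat.mono_iff_injective _).1 (NatTrans.mono_iff_mono_app _ |>.1 inferInstance (op V))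
  constructor
  · refine (injective_iff_map_eq_zero _).2 fun a ha => ?_
    obtain ⟨z, rfl⟩ := hπ a
    rw [hcomp] at ha
    obtain rfl | ⟨p, rfl⟩ : n = 0 ∨ ∃ p, n = p + 1 := by cases n <;> simp
    · have hφ : cycMor R 0 V z = 0 := by
        have h := congrArg R.extEquivCohomologyClass
          (show R.extMk (cycMor R 0 V z) (0 + 1) rfl (cycMor_d R 0 V z) = 0 from ha)
        rw [InjectiveResolution.extEquivCohomologyClass_extMk,
          InjectiveResolution.extEquivCohomologyClass_zero,
          CochainComplex.HomComplex.CohomologyClass.mk_eq_zero_iff,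
          CochainComplex.HomComplex.Cocycle.fromSingleMk_mem_coboundaries_iff _ _ _ _ _ (-1)
            (by omega)] at h
        obtain ⟨g, hg⟩ := h
        have hg0 : g = 0 := (R.cochainComplex.isZero_of_isStrictlyGE 0 (-1) (by omega)).eq_of_tgt _ _
        rw [hg0, zero_comp] at hg
        exact (cancel_mono (R.cochainComplexXIso 0 0 rfl).inv).1 (hg.symm.trans zero_comp.symm)
      have : z = 0 := hi (((secHom_cycMor R 0 V z).symm.trans
        (by rw [hφ, map_zero])).trans (map_zero _).symm)
      rw [this, map_zero]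
    · obtain ⟨g, hg⟩ := (R.extMk_eq_zero_iff _ _ rfl (cycMor_d R (p + 1) V z) p rfl).1 ha
      have hz : z = ((preCx R).toCycles p (p + 1)).app (op V) (secHom _ V g) := by
        apply hi
        refine (secHom_cycMor R (p + 1) V z).symm.trans ?_
        rw [← hg]
        exact (ConcreteCategory.congr_hom (congrArg (fun m => NatTrans.app m (op V))
          ((preCx R).toCycles_i p (p + 1))) (secHom _ V g)).symm
      rw [hz]
      exact (ConcreteCategory.congr_hom (congrArg (fun m => NatTrans.app m (op V))
        ((preCx R).toCycles_comp_homologyπ p (p + 1))) (secHom _ V g))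
  · intro α
    obtain ⟨φ, hφ, rfl⟩ := R.extMk_surjective α (n + 1) rfl
    let S := ShortComplex.mk ((preCx R).iCycles n) ((preCx R).d n (n + 1))
      ((preCx R).iCycles_d n (n + 1))
    have hS : S.Exact :=
      ShortComplex.exact_of_f_is_kernel _ ((preCx R).cyclesIsKernel n (n + 1) (by simp))
    obtain ⟨z, hz⟩ := (ShortComplex.ab_exact_iff _).1
      (hS.map ((evaluation Cᵒᵖ AddCommGrpCat.{u}).obj (op V))) (secHom _ V φ)
      (congrArg (secHom (R.cocomplex.X (n + 1)) V) hφ)
    refine ⟨((preCx R).homologyπ n).app (op V) z, (hcomp z).trans ?_⟩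
    exact extMk_congr R n (cycMor_d R n V z) hφ ((secHom_cycMor R n V z).trans hz)

/-- The homology of the complex of sections of an injective resolution is the cohomology presheaf. -/
def cohPresheafIso : (preCx R).homology n ≅ Sheaf.cohomologyPresheaf.{u} F n :=
  have : ∀ V, IsIso ((homToCoh R n).app V) := fun V =>
    (ConcreteCategory.isIso_iff_bijective _).2 (homToCoh_bijective R n V.unop)
  have : IsIso (homToCoh R n) := NatIso.isIso_of_isIso_app _
  asIso (homToCoh R n)

theorem nonempty_rightDerived_sheafToPresheaf_iso (F : Ab J) (p : ℕ) :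
    Nonempty (((sheafToPresheaf J AddCommGrpCat.{u}).rightDerived p).obj F ≅
      Sheaf.cohomologyPresheaf.{u} F p) :=
  ⟨(injectiveResolution F).isoRightDerivedObj _ p ≪≫ cohPresheafIso (injectiveResolution F) p⟩

theorem nonempty_Rpush_iso_sheafify {D : Type u} [SmallCategory D] {K : GrothendieckTopology D} (f : D ⥤ C)
    [f.IsContinuous K J] (F : Ab J) (i : ℕ) :
    Nonempty ((CohSite.Rpush J K f i).obj F ≅
      (presheafToSheaf K AddCommGrpCat.{u}).obj (f.op ⋙ Sheaf.cohomologyPresheaf.{u} F i)) := by
  let R := injectiveResolution F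
  let L := presheafToSheaf K AddCommGrpCat.{u}
  let W := (Functor.whiskeringLeft _ _ AddCommGrpCat.{u}).obj f.op
  let e : CohSite.push J K f ≅ sheafToPresheaf J AddCommGrpCat.{u} ⋙ W ⋙ L :=
    Functor.isoWhiskerLeft (CohSite.push J K f)
      (asIso (sheafificationAdjunction K AddCommGrpCat.{u}).counit).symm
  exact ⟨R.isoRightDerivedObj (CohSite.push J K f) i ≪≫
    (HomologicalComplex.homologyFunctor _ _ i).mapIso
      ((NatIso.mapHomologicalComplex e _).app R.cocomplex) ≪≫
    (((W.mapHomologicalComplex _).obj (preCx R)).sc i).mapHomologyIso L ≪≫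
    L.mapIso (((preCx R).sc i).mapHomologyIso W ≪≫ W.mapIso (cohPresheafIso R i))⟩

end Groth.Agent.SiteCoh
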