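import Groth.Agent.SiteCoh.CohPresheaf
import Groth.Agent.GrothSS.SuppInputs
import Mathlib.CategoryTheory.Sites.LocallyBijective

/-! # The spectral sequence from presheaf cohomology to sheaf cohomology -/

universe u

open CategoryTheory CategoryTheory.Limits CategoryTheory.Abelian Opposite

namespace Groth.Agent.SiteCoh

open Groth.Agent.CohAcyc Groth.Agent.GrothSS

variable {C : Type u} [SmallCategory C] (J : GrothendieckTopology C)

instance isEquivalence_toPre :
    (sheafToPresheaf (⊥ : GrothendieckTopology C) AddCommGrpCat.{u}).IsEquivalence :=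
  (sheafBotEquivalence AddCommGrpCat.{u}).isEquivalence_functor

/-- a presheaf as a sheaf for the trivial topology -/
abbrev botSh (P : Cᵒᵖ ⥤ AddCommGrpCat.{u}) : Ab (⊥ : GrothendieckTopology C) := ⟨P, Presheaf.isSheaf_bot P⟩

/-- sheaves as presheaves, as sheaves for the trivial topology -/
noncomputable abbrev inclBot : Ab J ⥤ Ab (⊥ : GrothendieckTopology C) :=
  sheafToPresheaf J AddCommGrpCat.{u} ⋙ (sheafBotEquivalence AddCommGrpCat.{u}).inverse

/-- sheafification of sheaves for the trivial topology -/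
noncomputable abbrev sheafBot : Ab (⊥ : GrothendieckTopology C) ⥤ Ab J :=
  sheafToPresheaf (⊥ : GrothendieckTopology C) AddCommGrpCat.{u} ⋙ presheafToSheaf J AddCommGrpCat.{u}

/-- the adjunction -/
noncomputable def botAdj : sheafBot J ⊣ inclBot J :=
  (sheafBotEquivalence AddCommGrpCat.{u}).toAdjunction.comp (sheafificationAdjunction J AddCommGrpCat.{u})

instance sheafBot_additive : (sheafBot J).Additive := inferInstance

instance inclBot_additive : (inclBot (C := C) J).Additive := (botAdj J).right_adjoint_additive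

instance inclBot_preservesInjectives : (inclBot (C := C) J).PreservesInjectiveObjects :=
  haveI : (sheafBot J).PreservesMonomorphisms := inferInstance
  Functor.preservesInjectiveObjects_of_adjunction_of_preservesMonomorphisms (botAdj J)

/-- right derived functors of the inclusion are cohomology presheaves -/
theorem nonempty_rightDerived_inclBot (M : Ab J) (q : ℕ) :
    Nonempty (((inclBot J).rightDerived q).obj M ≅ botSh (M.cohomologyPresheaf q)) := by
  let R := injectiveResolution M
  exact ⟨R.isoRightDerivedObj (inclBot J) q ≪≫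
    (((preCx R).sc q).mapHomologyIso (sheafBotEquivalence AddCommGrpCat.{u}).inverse) ≪≫
    (sheafBotEquivalence AddCommGrpCat.{u}).inverse.mapIso (cohPresheafIso R q)⟩

/-- `a Z[R] ≅ Z[a R]` -/
noncomputable def sheafifyFreeIso (R : Cᵒᵖ ⥤ Type u) :
    (sheafBot J).obj ((presheafToSheaf (⊥ : GrothendieckTopology C) AddCommGrpCat.{u}).obj
      (R ⋙ AddCommGrpCat.free.{u})) ≅ (zF J).obj ((presheafToSheaf J (Type u)).obj R) :=
  (presheafToSheaf J AddCommGrpCat.{u}).mapIso
    (isoSheafify (⊥ : GrothendieckTopology C) (Presheaf.isSheaf_bot (R ⋙ AddCommGrpCat.free.{u}))).symm ≪≫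
  @asIso _ _ _ _ (((Functor.whiskeringRight Cᵒᵖ (Type u) AddCommGrpCat.{u}).obj AddCommGrpCat.free ⋙
      presheafToSheaf J AddCommGrpCat.{u}).map (toSheafify J R))
    (J.W_isInvertedBy_whiskeringRight_presheafToSheaf AddCommGrpCat.free.{u} _ (J.W_toSheafify _))

/-- `H^p(R, H^q M) ⇒ H^n(aR, M)` -/
theorem exists_spectralSequence_presheaf (R : Cᵒᵖ ⥤ Type u) (M : Ab J) (Z : AddCommGrpCat.{u}) (hZ : IsZero Z) :
    ∃ (E : E₂CohomologicalSpectralSequence AddCommGrpCat.{u})
      (a : SpSeq.Abutment E (fun n : ℤ =>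
        if 0 ≤ n then AddCommGrpCat.of (CohCx.HK ((presheafToSheaf J (Type u)).obj R) M n.toNat)
        else Z)),
      (∀ n, a.IsFinite n) ∧ SpSeq.IsBounded E ∧
      ∀ p q : ℤ, Nonempty ((E.page 2 le_rfl).X (p, q) ≅
        (if 0 ≤ p ∧ 0 ≤ q then
          AddCommGrpCat.of (CohCx.HK (J := (⊥ : GrothendieckTopology C)) ⟨R, Presheaf.isSheaf_bot _⟩
            (botSh (M.cohomologyPresheaf q.toNat)) p.toNat)
         else Z)) :=
  exists_spectralSequence_ext (botAdj J)
    ((presheafToSheaf (⊥ : GrothendieckTopology C) AddCommGrpCat.{u}).obj (R ⋙ AddCommGrpCat.free.{u}))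
    (fun Q hQ q =>
      haveI : Injective ((inclBot J).obj Q) := (inclBot J).injective_obj Q
      Ext.subsingleton_of_injective _ _ q)
    M Z hZ (fun n => AddCommGrpCat.of (CohCx.HK ((presheafToSheaf J (Type u)).obj R) M n))
    (fun n => ⟨extIsoLeft (sheafifyFreeIso J R) M n⟩)
    (fun p q => AddCommGrpCat.of (CohCx.HK (J := (⊥ : GrothendieckTopology C)) ⟨R, Presheaf.isSheaf_bot _⟩
      (botSh (M.cohomologyPresheaf q)) p))
    (fun p q => ⟨extIsoRight _ (nonempty_rightDerived_inclBot J M q).some p⟩)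

end Groth.Agent.SiteCoh
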