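import Groth.Agent.SiteCoh.CechPre
import Groth.Agent.SiteCoh.PreSS

/-! # Čech-to-cohomology on sites -/

universe u

open CategoryTheory CategoryTheory.Limits CategoryTheory.Abelian Opposite

namespace Groth.Agent.SiteCoh

open Groth.Agent.CohAcyc Groth.Agent.GrothSS

variable {C : Type u} [SmallCategory C] [HasPullbacks C] (J : GrothendieckTopology C) {X : C} {ι : Type u}
  (Y : ι → Over X)

theorem isZero_cechH_injective (I : Ab J) [Injective I] (p : ℕ) :
    IsZero (CohCx.cechH I.obj Y (p + 1)) := by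
  haveI : Injective ((inclBot J).obj I) := (inclBot J).injective_obj I
  exact (@AddCommGrpCat.isZero_of_subsingleton _
    (Ext.subsingleton_of_injective _ ((inclBot J).obj I) p)).of_iso (nonempty_cechH_iso Y I.obj (p + 1)).some

omit [HasPullbacks C] in
/-- a covering sieve sheafifies to the representable sheaf -/
theorem isIso_sheafify_functorInclusion {S : Sieve X} (hS : S ∈ J X) :
    IsIso ((presheafToSheaf J (Type u)).map S.functorInclusion) := by
  refine (J.W_iff _).1 ((J.W_iff_isLocallyBijective _).2 ⟨Presheaf.isLocallyInjective_of_injective J _ fun V a b h => Subtype.ext h, ⟨fun {V} g => ?_⟩⟩)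
  refine J.superset_covering (fun W h hh => ?_) (J.pullback_stable g hS)
  exact ⟨⟨h ≫ g, hh⟩, rfl⟩

/-- `Z[a(sieve)] ≅ Z_X` for a covering family -/
noncomputable def sieveFreeIso (hY : Sieve.ofArrows (fun i => (Y i).left) (fun i => (Y i).hom) ∈ J X) :
    (zF J).obj ((presheafToSheaf J (Type u)).obj
      (Sieve.ofArrows (fun i => (Y i).left) (fun i => (Y i).hom)).functor) ≅ CohCx.freeSheaf J X :=
  (zF J).mapIso (@asIso _ _ _ _ _ (isIso_sheafify_functorInclusion J hY)) ≪≫ (freeSheafIso (J := J) X).symm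

/-- the spectral sequence of a covering -/
theorem exists_spectralSequence_cech (M : Ab J)
    (hY : Sieve.ofArrows (fun i => (Y i).left) (fun i => (Y i).hom) ∈ J X)
    (Z : AddCommGrpCat.{u}) (hZ : IsZero Z) :
    ∃ (E : E₂CohomologicalSpectralSequence AddCommGrpCat.{u})
      (a : SpSeq.Abutment E (fun n : ℤ =>
        if 0 ≤ n then AddCommGrpCat.of (CohSite.HU M n.toNat X) else Z)),
      (∀ n, a.IsFinite n) ∧ SpSeq.IsBounded E ∧
      ∀ p q : ℤ, Nonempty ((E.page 2 le_rfl).X (p, q) ≅
        (if 0 ≤ p ∧ 0 ≤ q then CohCx.cechH (M.cohomologyPresheaf q.toNat) Y p.toNat else Z)) :=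
  exists_spectralSequence_ext (botAdj J)
    ((presheafToSheaf (⊥ : GrothendieckTopology C) AddCommGrpCat.{u}).obj
      ((Sieve.ofArrows (fun i => (Y i).left) (fun i => (Y i).hom)).functor ⋙ AddCommGrpCat.free.{u}))
    (fun Q hQ q =>
      haveI : Injective ((inclBot J).obj Q) := (inclBot J).injective_obj Q
      Ext.subsingleton_of_injective _ _ q)
    M Z hZ (fun n => AddCommGrpCat.of (CohSite.HU M n X))
    (fun n => ⟨extIsoLeft (sheafifyFreeIso J _ ≪≫ sieveFreeIso J Y hY) M n⟩)
    (fun p q => CohCx.cechH (M.cohomologyPresheaf q) Y p)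
    (fun p q => ⟨(extIsoRight _ (nonempty_rightDerived_inclBot J M q).some p).trans
      (nonempty_cechH_iso Y (M.cohomologyPresheaf q) p).some.symm.addCommGroupIsoToAddEquiv⟩)

end Groth.Agent.SiteCoh
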