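import Groth.Agent.SiteCoh.OverExact
import Groth.Agent.SiteCoh.ExtAdj
import Groth.Agent.CohAcyc.Sections
import Mathlib.CategoryTheory.Sites.CoverLifting

/-! # Cohomology over an object as cohomology of the localised site -/

universe u

open CategoryTheory CategoryTheory.Limits CategoryTheory.Abelian Opposite

namespace Groth.Agent.SiteCoh.OverExact

variable {C : Type u} [SmallCategory C] (U : C) (J : GrothendieckTopology C)

/-- restriction of abelian sheaves to `C/U` -/
noncomputable abbrev res : Sheaf J AddCommGrpCat.{u} ⥤ Sheaf (J.over U) AddCommGrpCat.{u} :=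
  (Over.forget U).sheafPushforwardContinuous AddCommGrpCat.{u} (J.over U) J

/-- extension by zero -/
noncomputable abbrev shr : Sheaf (J.over U) AddCommGrpCat.{u} ⥤ Sheaf J AddCommGrpCat.{u} :=
  (Over.forget U).sheafPullback AddCommGrpCat.{u} (J.over U) J

/-- the adjunction -/
noncomputable abbrev shrAdj : shr U J ⊣ res U J :=
  (Over.forget U).sheafAdjunctionContinuous AddCommGrpCat.{u} (J.over U) J

instance res_preservesFiniteColimits : PreservesFiniteColimits (res U J) :=
  haveI := ((Over.forget U).sheafAdjunctionCocontinuous AddCommGrpCat.{u} (J.over U) J).leftAdjoint_preservesColimits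
  PreservesColimitsOfSize.preservesFiniteColimits.{u, u} _

/-- `Ext(j_! X, F) ≅ Ext(X, F|_U)` -/
theorem nonempty_shrExt (X : Sheaf (J.over U) AddCommGrpCat.{u}) (F : Sheaf J AddCommGrpCat.{u}) (n : ℕ) :
    Nonempty (Ext.{u} ((shr U J).obj X) F n ≃+ Ext.{u} X ((res U J).obj F) n) := by
  haveI := sheafPullback_over_preservesFiniteLimits U J
  haveI : (shr U J).Additive := (shrAdj U J).left_adjoint_additive
  haveI : (res U J).Additive := (shrAdj U J).right_adjoint_additive
  exact nonempty_extAdjEquiv (shrAdj U J) X n F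

/-- maps out of `ℤ` are elements -/
noncomputable def intHomEquiv (A : AddCommGrpCat.{u}) : (AddCommGrpCat.of (ULift.{u} ℤ) ⟶ A) ≃ A where
  toFun φ := φ.hom (ULift.up 1)
  invFun a := AddCommGrpCat.ofHom ((zmultiplesHom A a).comp (AddEquiv.ulift : ULift.{u} ℤ ≃+ ℤ).toAddMonoidHom)
  left_inv φ := by
    refine AddCommGrpCat.hom_ext (AddMonoidHom.ext fun ⟨k⟩ => ?_)
    show k • φ.hom (ULift.up 1) = φ.hom ⟨k⟩
    rw [← map_zsmul]
    exact congrArg φ.hom (ULift.ext _ _ (by simp))
  right_inv a := one_zsmul a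

/-- the constant sheaf `Z` on `C/U`, extended by zero -/
noncomputable abbrev shrZ : Sheaf J AddCommGrpCat.{u} :=
  (shr U J).obj ((constantSheaf (J.over U) AddCommGrpCat.{u}).obj (AddCommGrpCat.of (ULift.{u} ℤ)))

/-- maps out of `j_! Z` are sections over `U` -/
noncomputable def shrSecEquiv (F : Sheaf J AddCommGrpCat.{u}) : (shrZ U J ⟶ F) ≃ F.obj.obj (op U) :=
  ((shrAdj U J).homEquiv _ F).trans
    (((constantSheafAdj (J.over U) AddCommGrpCat.{u} Over.mkIdTerminal).homEquiv _ _).trans (intHomEquiv _))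

lemma shrSecEquiv_comp {F G : Sheaf J AddCommGrpCat.{u}} (φ : shrZ U J ⟶ F) (h : F ⟶ G) :
    shrSecEquiv U J G (φ ≫ h) = h.hom.app (op U) (shrSecEquiv U J F φ) := by
  simp only [shrSecEquiv, Equiv.trans_apply]
  rw [Adjunction.homEquiv_naturality_right, Adjunction.homEquiv_naturality_right]
  rfl

/-- `Z_U = j_! Z` -/
noncomputable def freeSheafShrIso : CohCx.freeSheaf J U ≅ shrZ U J :=
  let Φ : coyoneda.obj (op (shrZ U J)) ≅ coyoneda.obj (op (CohCx.freeSheaf J U)) :=
    NatIso.ofComponents (fun F => Equiv.toIso ((shrSecEquiv U J F).trans (CohAcyc.secEquiv' U F).symm))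
      (fun {F G} h => by
        ext φ
        apply (CohAcyc.secEquiv' U G).injective
        show CohAcyc.secEquiv' U G ((CohAcyc.secEquiv' U G).symm (shrSecEquiv U J G (φ ≫ h))) =
          CohAcyc.secEquiv' U G (((CohAcyc.secEquiv' U F).symm (shrSecEquiv U J F φ)) ≫ h)
        rw [CohAcyc.secEquiv'_comp, Equiv.apply_symm_apply, Equiv.apply_symm_apply, shrSecEquiv_comp])
  (Coyoneda.fullyFaithful.preimageIso Φ).unop

end Groth.Agent.SiteCoh.OverExact
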