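import Groth.Agent.SiteCoh.CechSS
import Groth.Agent.CohAcyc.Sections

/-! # Sections lift when the first Čech cohomology of the kernel vanishes -/

universe u

open CategoryTheory CategoryTheory.Limits CategoryTheory.Abelian Opposite

namespace Groth.Agent.SiteCoh

open Groth.Agent.CohAcyc Groth.Agent.GrothSS

variable {C : Type u} [SmallCategory C] [HasPullbacks C] {J : GrothendieckTopology C}

omit [HasPullbacks C] in
theorem inclBot_preservesFiniteLimits : PreservesFiniteLimits (inclBot (C := C) J) :=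
  haveI : PreservesLimitsOfSize.{0, 0} (inclBot (C := C) J) := (botAdj J).rightAdjoint_preservesLimits
  PreservesLimitsOfSize.preservesFiniteLimits.{0, 0} _

omit [HasPullbacks C] in
theorem image_seq_zero {S : ShortComplex (Ab J)} :
    (inclBot J).map S.f ≫ Abelian.factorThruImage ((inclBot J).map S.g) = 0 := by
  apply (cancel_mono (Abelian.image.ι ((inclBot J).map S.g))).1
  rw [Category.assoc, kernel.lift_ι, zero_comp, ← (inclBot J).map_comp, S.zero, (inclBot J).map_zero]

omit [HasPullbacks C] in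
/-- a short exact sequence of sheaves gives a short exact sequence of presheaves ending at the image -/
theorem image_seq_shortExact {S : ShortComplex (Ab J)} (hS : S.ShortExact) :
    (ShortComplex.mk ((inclBot J).map S.f) (Abelian.factorThruImage ((inclBot J).map S.g))
      image_seq_zero).ShortExact := by
  haveI := inclBot_preservesFiniteLimits (C := C) (J := J)
  haveI := hS.mono_f
  haveI : Mono ((inclBot J).map S.f) := (inclBot J).map_mono S.f
  let φ : ShortComplex.mk ((inclBot J).map S.f) (Abelian.factorThruImage ((inclBot J).map S.g))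
      image_seq_zero ⟶ S.map (inclBot J) :=
    { τ₁ := 𝟙 _, τ₂ := 𝟙 _, τ₃ := Abelian.image.ι _
      comm₁₂ := (Category.id_comp _).trans (Category.comp_id _).symm
      comm₂₃ := (Category.id_comp _).trans (kernel.lift_ι _ _ _).symm }
  haveI : Epi φ.τ₁ := inferInstanceAs (Epi (𝟙 _))
  haveI : IsIso φ.τ₂ := inferInstanceAs (IsIso (𝟙 _))
  haveI : Mono φ.τ₃ := inferInstanceAs (Mono (Abelian.image.ι _))
  exact { exact := (ShortComplex.exact_iff_of_epi_of_isIso_of_mono φ).2
            (ShortComplex.exact_of_f_is_kernel _ (KernelFork.mapIsLimit _ hS.fIsKernel (inclBot J))) }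

/-- the map from the sieve given by a section -/
noncomputable def sieveMap (G : Ab J) {U : C} {ι : Type u} (Y : ι → Over U) (s : G.obj.obj (op U)) :
    sieveSh Y ⟶ (sheafCompose _ (CategoryTheory.forget AddCommGrpCat.{u})).obj ((inclBot J).obj G) :=
  ⟨{ app := fun V => ↾fun g => G.obj.map g.1.op s
     naturality := fun V W k => ConcreteCategory.hom_ext _ _ fun g =>
       ConcreteCategory.congr_hom (G.obj.map_comp g.1.op k) s }⟩

/-- the map from `Z[sieve]` given by a section -/
noncomputable def sieveHom (G : Ab J) {U : C} {ι : Type u} (Y : ι → Over U) (s : G.obj.obj (op U)) :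
    (zF (⊥ : GrothendieckTopology C)).obj (sieveSh Y) ⟶ (inclBot J).obj G :=
  ((zAdj _).homEquiv _ _).symm (sieveMap G Y s)

theorem sieveHom_cokernel {S : ShortComplex (Ab J)} {U : C} (s : S.X₃.obj.obj (op U))
    {ι : Type u} (Y : ι → Over U)
    (hs : ∀ i, ∃ t : S.X₂.obj.obj (op (Y i).left), S.g.hom.app _ t = S.X₃.obj.map (Y i).hom.op s) :
    sieveHom S.X₃ Y s ≫ cokernel.π ((inclBot J).map S.g) = 0 := by
  haveI : (zF (⊥ : GrothendieckTopology C)).IsLeftAdjoint := ⟨_, ⟨zAdj _⟩⟩
  haveI : Epi ((zF (⊥ : GrothendieckTopology C)).map (famMap Y)) := Functor.map_epi _ _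
  let t := (preVal_bijective (X := U) ((inclBot J).obj S.X₂) (fam Y)).2 (fun i => (hs i).choose)
  have hm : (zF (⊥ : GrothendieckTopology C)).map (famMap Y) ≫ sieveHom S.X₃ Y s =
      t.choose ≫ (inclBot J).map S.g := by
    apply (preVal_bijective ((inclBot J).obj S.X₃) (fam Y)).1
    funext i
    refine Eq.trans ?_ (congrArg (fun q => ptsVal _ (fam Y) q i)
      ((zAdj _).homEquiv_naturality_right t.choose ((inclBot J).map S.g))).symm
    refine Eq.trans ?_ (congrArg (S.g.hom.app (op (Y i).left)) (congrFun t.choose_spec i)).symm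
    refine Eq.trans ?_ (hs i).choose_spec.symm
    refine (congrArg (fun q => ptsVal _ (fam Y) q i)
      ((zAdj _).homEquiv_naturality_left (famMap Y) (sieveHom S.X₃ Y s))).trans ?_
    rw [sieveHom, Equiv.apply_symm_apply]
    exact congrArg (fun g : (Y i).left ⟶ U => S.X₃.obj.map g.op s) (Category.id_comp (Y i).hom)
  rw [← cancel_epi ((zF (⊥ : GrothendieckTopology C)).map (famMap Y)), ← Category.assoc, hm, Category.assoc,
    cokernel.condition, comp_zero, comp_zero]

/-- glue a lift on the sieve -/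
theorem exists_of_sieve_lift {S : ShortComplex (Ab J)} {U : C} (s : S.X₃.obj.obj (op U))
    {ι : Type u} (Y : ι → Over U)
    (hY : Sieve.ofArrows (fun i => (Y i).left) (fun i => (Y i).hom) ∈ J U)
    (a₂ : sieveSh Y ⟶ (sheafCompose _ (CategoryTheory.forget AddCommGrpCat.{u})).obj ((inclBot J).obj S.X₂))
    (ha : a₂ ≫ (sheafCompose _ (CategoryTheory.forget AddCommGrpCat.{u})).map ((inclBot J).map S.g) =
      sieveMap S.X₃ Y s) :
    s ∈ Set.range (S.g.hom.app (op U)) := by
  let S' : Sieve U := Sieve.ofArrows (fun i => (Y i).left) (fun i => (Y i).hom)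
  have hsh : ∀ G : Ab J, Presieve.IsSheafFor (G.obj ⋙ CategoryTheory.forget AddCommGrpCat.{u}) (S' : Presieve U) :=
    fun G => (isSheaf_iff_isSheaf_of_type _ _).1
      ((sheafCompose J (CategoryTheory.forget AddCommGrpCat.{u})).obj G).property S' hY
  let x : Presieve.FamilyOfElements (S.X₂.obj ⋙ CategoryTheory.forget AddCommGrpCat.{u}) (S' : Presieve U) :=
    fun V g hg => a₂.hom.app (op V) ⟨g, hg⟩
  have hx : x.Compatible := by
    rw [Presieve.compatible_iff_sieveCompatible]
    intro V W g k hg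
    exact ConcreteCategory.congr_hom (a₂.hom.naturality k.op) ⟨g, hg⟩
  refine ⟨(hsh S.X₂).amalgamate x hx, (hsh S.X₃).isSeparatedFor.ext fun V g hg => ?_⟩
  have h₁ : S.X₂.obj.map g.op ((hsh S.X₂).amalgamate x hx) = a₂.hom.app (op V) ⟨g, hg⟩ :=
    (hsh S.X₂).valid_glue hx g hg
  refine (ConcreteCategory.congr_hom (S.g.hom.naturality g.op) _).symm.trans ?_
  refine (congrArg (S.g.hom.app (op V)) h₁).trans ?_
  exact ConcreteCategory.congr_hom (congrArg (fun q : sieveSh Y ⟶ _ => q.hom.app (op V)) ha) ⟨g, hg⟩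

theorem exists_lift_of_cech {S : ShortComplex (Ab J)} (hS : S.ShortExact) {U : C} (s : S.X₃.obj.obj (op U))
    {ι : Type u} (Y : ι → Over U) (hY : Sieve.ofArrows (fun i => (Y i).left) (fun i => (Y i).hom) ∈ J U)
    (hs : ∀ i, ∃ t : S.X₂.obj.obj (op (Y i).left), S.g.hom.app _ t = S.X₃.obj.map (Y i).hom.op s)
    (h : IsZero (CohCx.cechH S.X₁.obj Y 1)) : s ∈ Set.range (S.g.hom.app (op U)) := by
  have hext : Subsingleton (Ext ((zF (⊥ : GrothendieckTopology C)).obj (sieveSh Y)) ((inclBot J).obj S.X₁) 1) :=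
    (AddCommGrpCat.subsingleton_of_isZero (h.of_iso (nonempty_cechH_iso Y S.X₁.obj 1).some.symm) : _)
  obtain ⟨τ, hτ⟩ := lift_of_subsingleton (image_seq_shortExact hS) hext
    (kernel.lift (cokernel.π ((inclBot J).map S.g)) (sieveHom S.X₃ Y s) (sieveHom_cokernel s Y hs))
  have hτ' : τ ≫ (inclBot J).map S.g = sieveHom S.X₃ Y s :=
    (congrArg (τ ≫ ·) (Abelian.image.fac ((inclBot J).map S.g))).symm.trans
      ((Category.assoc _ _ _).symm.trans ((congrArg (· ≫ Abelian.image.ι _) hτ).trans (kernel.lift_ι _ _ _)))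
  refine exists_of_sieve_lift s Y hY ((zAdj _).homEquiv _ _ τ) ?_
  rw [← Adjunction.homEquiv_naturality_right, hτ']
  exact Equiv.apply_symm_apply _ _

/-- the criterion on a cofinal system of coverings -/
theorem surjective_of_cech {S : ShortComplex (Ab J)} (hS : S.ShortExact) (U : C)
    (h : ∀ T ∈ J U, ∃ (ι : Type u) (Y : ι → Over U), (∀ i, T.arrows (Y i).hom) ∧
      Sieve.ofArrows (fun i => (Y i).left) (fun i => (Y i).hom) ∈ J U ∧
      IsZero (CohCx.cechH S.X₁.obj Y 1)) :
    Function.Surjective (S.g.hom.app (op U)) := fun s => by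
  haveI := hS.epi_g
  haveI : Sheaf.IsLocallySurjective S.g :=
    (Sheaf.isLocallySurjective_iff_epi' (A := AddCommGrpCat.{u}) S.g).2 inferInstance
  obtain ⟨ι, Y, hY₁, hY₂, hz⟩ := h _ (Presheaf.imageSieve_mem J S.g.hom s)
  exact exists_lift_of_cech hS s Y hY₂ (fun i => hY₁ i) hz

end Groth.Agent.SiteCoh
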