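import Groth.Agent.SiteCoh.CechH1
import Groth.Prelude.Def_CechEdge

/-! # Cartan's criterion: Čech acyclicity on a cofinal collection gives acyclicity -/

universe u

open CategoryTheory CategoryTheory.Limits CategoryTheory.Abelian Opposite

namespace Groth.Agent.SiteCoh

open Groth.Agent.CohAcyc Groth.Agent.GrothSS

variable {C : Type u} [SmallCategory C] [HasPullbacks C] {J : GrothendieckTopology C} {X : C} {ι : Type u}

lemma compVal_map {P Q : Cᵒᵖ ⥤ AddCommGrpCat.{u}} (φ : P ⟶ Q) (Y : ι → Over X) (n : ℕ)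
    (x : evalPre (botSh P) ((fam Y).cech.obj (op (SimplexCategory.mk n)))) :
    compVal (botSh Q) _ ((((CechEdge.cxFunctor Y).map φ).f n).hom x) =
      fun i => φ.app (op (((fam Y).cech.obj (op (SimplexCategory.mk n))).obj i).left)
        (compVal (botSh P) _ x i) :=
  funext fun i => ConcreteCategory.congr_hom (Pi.map_π
    (fun j : ((fam Y).cech.obj (op (SimplexCategory.mk n))).I =>
      φ.app (op (((fam Y).cech.obj (op (SimplexCategory.mk n))).obj j).left)) i) x

/-- Čech complexes of a sequence exact on intersections -/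
theorem shortExact_cechCx {S : ShortComplex (Ab J)} (hS : S.ShortExact) (Y : ι → Over X)
    (hsur : ∀ (p : ℕ) (a : Fin (p + 1) → ι),
      Function.Surjective (S.g.hom.app (op (∏ᶜ fun k => Y (a k)).left))) :
    ((S.map (sheafToPresheaf J AddCommGrpCat.{u})).map (CechEdge.cxFunctor Y)).ShortExact := by
  refine HomologicalComplex.shortExact_of_degreewise_shortExact _ fun n => ?_
  haveI := hS.mono_f
  have hsec : ∀ V : Cᵒᵖ, Function.Injective (S.f.hom.app V) ∧
      ((S.map (sheafToPresheaf J AddCommGrpCat.{u})).map ((evaluation _ _).obj V)).Exact := fun V => by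
    let R := sheafToPresheaf J AddCommGrpCat.{u} ⋙ (evaluation _ _).obj V
    haveI : PreservesLimitsOfSize.{0, 0} (sheafToPresheaf J AddCommGrpCat.{u}) :=
      (sheafificationAdjunction J AddCommGrpCat.{u}).rightAdjoint_preservesLimits
    haveI : PreservesFiniteLimits (sheafToPresheaf J AddCommGrpCat.{u}) :=
      PreservesLimitsOfSize.preservesFiniteLimits.{0, 0} _
    haveI : PreservesFiniteLimits R := inferInstanceAs
      (PreservesFiniteLimits (sheafToPresheaf J AddCommGrpCat.{u} ⋙ (evaluation _ _).obj V))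
    refine ⟨(AddCommGrpCat.mono_iff_injective _).1 (R.map_mono S.f), ?_⟩
    exact ShortComplex.exact_of_f_is_kernel _ (KernelFork.mapIsLimit _ hS.fIsKernel R)
  have hsur' : ∀ i : ((fam Y).cech.obj (op (SimplexCategory.mk n))).I,
      Function.Surjective (S.g.hom.app (op (((fam Y).cech.obj (op (SimplexCategory.mk n))).obj i).left)) :=
    hsur n
  refine ShortComplex.ShortExact.mk' ?_ ?_ ?_
  · rw [ShortComplex.ab_exact_iff]
    intro x hx
    have hx' := (compVal_map S.g.hom Y n x).symm.trans ((congrArg (compVal _ _) hx).trans (map_zero _))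
    have hc : ∀ i, ∃ w, S.f.hom.app _ w = compVal (botSh S.X₂.obj) _ x i := fun i =>
      (ShortComplex.ab_exact_iff _).1 (hsec _).2 _ (congrFun hx' i)
    obtain ⟨y, hy⟩ := (compVal_bijective (botSh S.X₁.obj) _).2 (fun i => (hc i).choose)
    refine ⟨y, (compVal_bijective (botSh S.X₂.obj) _).1 ((compVal_map S.f.hom Y n y).trans (funext fun i => ?_))⟩
    rw [hy]
    exact (hc i).choose_spec
  · refine (AddCommGrpCat.mono_iff_injective _).2 fun x y hxy => (compVal_bijective (botSh S.X₁.obj) _).1 (funext fun i => (hsec _).1 ?_)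
    exact congrFun ((compVal_map S.f.hom Y n x).symm.trans ((congrArg (compVal _ _) hxy).trans (compVal_map S.f.hom Y n y))) i
  · refine (AddCommGrpCat.epi_iff_surjective _).2 fun z => ?_
    obtain ⟨x, hx⟩ := (compVal_bijective (botSh S.X₂.obj) _).2
      (fun i => (hsur' i (compVal (botSh S.X₃.obj) _ z i)).choose)
    refine ⟨x, (compVal_bijective (botSh S.X₃.obj) _).1 ((compVal_map S.g.hom Y n x).trans (funext fun i => ?_))⟩
    rw [hx]
    exact (hsur' i (compVal (botSh S.X₃.obj) _ z i)).choose_spec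

variable (J) in
/-- a family of coverings of members of `B` with intersections in `B` -/
structure IsCovSystem (B : Set C) (Cov : ∀ (U : C) (ι : Type u), (ι → Over U) → Prop) : Prop where
  mem : ∀ (U : C) (ι : Type u) (Y : ι → Over U), Cov U ι Y → U ∈ B ∧
      Sieve.ofArrows (fun i => (Y i).left) (fun i => (Y i).hom) ∈ J U ∧
      ∀ (p : ℕ) (a : Fin (p + 1) → ι), (∏ᶜ fun k => Y (a k)).left ∈ B
  cofinal : ∀ U ∈ B, ∀ T ∈ J U, ∃ (ι : Type u) (Y : ι → Over U), Cov U ι Y ∧ ∀ i, T.arrows (Y i).hom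

variable {B : Set C} {Cov : ∀ (U : C) (ι : Type u), (ι → Over U) → Prop}

theorem IsCovSystem.surjective (hC : IsCovSystem J B Cov) {S : ShortComplex (Ab J)} (hS : S.ShortExact)
    (h₁ : ∀ (U : C) (ι : Type u) (Y : ι → Over U), Cov U ι Y → IsZero (CohCx.cechH S.X₁.obj Y 1))
    {U : C} (hU : U ∈ B) : Function.Surjective (S.g.hom.app (op U)) :=
  surjective_of_cech hS U fun T hT => by
    obtain ⟨ι, Y, hY, hT'⟩ := hC.cofinal U hU T hT
    exact ⟨ι, Y, hT', (hC.mem U ι Y hY).2.1, h₁ U ι Y hY⟩

/-- Cartan's criterion -/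
theorem IsCovSystem.acyclic (hC : IsCovSystem J B Cov) : ∀ (p : ℕ) (F : Ab J),
    (∀ (U : C) (ι : Type u) (Y : ι → Over U), Cov U ι Y → ∀ q : ℕ, IsZero (CohCx.cechH F.obj Y (q + 1))) →
    ∀ U ∈ B, Subsingleton (CohSite.HU F (p + 1) U)
  | 0, F, hF, U, hU => by
    rw [subsingleton_HU_iff]
    refine subsingleton_one_of_lift (injSeq_shortExact F) (Ext.subsingleton_of_injective _ _ 0) ?_
    exact (lift_iff_surjective U _).2 (hC.surjective (injSeq_shortExact F) (fun V ι Y hY => hF V ι Y hY 0) hU)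
  | p + 1, F, hF, U, hU => by
    rw [subsingleton_HU_iff]
    refine subsingleton_succ_of_ses (injSeq_shortExact F)
      ((subsingleton_HU_iff _ _ _).1 (IsCovSystem.acyclic hC p (injSeq F).X₃ (fun V ι Y hY q => ?_) U hU))
      (Ext.subsingleton_of_injective _ _ _)
    have hS := shortExact_cechCx (injSeq_shortExact F) Y fun n a =>
      hC.surjective (injSeq_shortExact F) (fun W κ Z hZ => hF W κ Z hZ 0) ((hC.mem V ι Y hY).2.2 n a)
    exact (hS.homology_exact₃ (q + 1) (q + 2) rfl).isZero_X₂
      ((isZero_cechH_injective J Y (injSeq F).X₂ q).eq_of_src _ _)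
      ((hF V ι Y hY (q + 1)).eq_of_tgt _ _)

end Groth.Agent.SiteCoh
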