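import Groth.Agent.SiteCoh.CohPresheaf
import Groth.Agent.RDerNat.Basic
import Groth.Agent.LocCohZLib.Derived

/-! # Higher direct images and colimits -/

set_option autoImplicit false
set_option linter.all false
set_option backward.isDefEq.respectTransparency false
set_option backward.defeqAttrib.useBackward true

noncomputable section

universe u

open CategoryTheory CategoryTheory.Limits CategoryTheory.Abelian Opposite

namespace Groth.Agent.SiteCoh

variable {C D : Type u} [SmallCategory C] [SmallCategory D] {J : GrothendieckTopology C}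
  {K : GrothendieckTopology D}

/-- sections at an object -/
abbrev evalAt (J : GrothendieckTopology C) (V : C) : Sheaf J AddCommGrpCat.{u} ⥤ AddCommGrpCat.{u} :=
  sheafToPresheaf J AddCommGrpCat.{u} ⋙ (evaluation _ _).obj (op V)

instance stp_preservesFiniteLimits : PreservesFiniteLimits (sheafToPresheaf J AddCommGrpCat.{u}) :=
  haveI : PreservesLimitsOfSize.{0, 0} (sheafToPresheaf J AddCommGrpCat.{u}) :=
    (sheafificationAdjunction J AddCommGrpCat.{u}).rightAdjoint_preservesLimits
  PreservesLimitsOfSize.preservesFiniteLimits.{0, 0} _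

/-- degree zero -/
def extEvalIso (V : C) : 𝟭 (Sheaf J AddCommGrpCat.{u}) ⋙ extFunctorObj (free (J := J) V) 0 ≅ evalAt J V :=
  NatIso.ofComponents (fun N => AddEquiv.toAddCommGrpIso (Ext.addEquiv₀.trans (secEquiv N V)))
    (fun {N N'} g => by
      ext x
      obtain ⟨a, rfl⟩ := Ext.addEquiv₀.symm.surjective x
      show secEquiv N' V (Ext.addEquiv₀ ((Ext.mk₀ a).comp (Ext.mk₀ g) (add_zero 0))) =
        g.hom.app (op V) (secEquiv N V (Ext.addEquiv₀ (Ext.mk₀ a)))
      rw [Ext.mk₀_comp_mk₀, show Ext.mk₀ (a ≫ g) = Ext.addEquiv₀.symm (a ≫ g) from rfl, AddEquiv.apply_symm_apply,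
        show Ext.mk₀ a = Ext.addEquiv₀.symm a from rfl]
      erw [AddEquiv.apply_symm_apply]
      rfl)

theorem nonempty_eval_rightDerived (V : C) (p : ℕ) :
    Nonempty ((sheafToPresheaf J AddCommGrpCat.{u}).rightDerived p ⋙ (evaluation _ _).obj (op V) ≅
      (Sheaf.cohomologyPresheafFunctor J p).flip.obj (op V)) := by
  haveI : (evalAt J V).Additive := inferInstance
  obtain ⟨e⟩ := LocCohZLib.nonempty_extFunctorObj_iso (𝟭 (Sheaf J AddCommGrpCat.{u})) (free (J := J) V)
    (fun I hI n => haveI := hI; Ext.subsingleton_of_injective _ _ n) (evalAt J V) (extEvalIso V) p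
  exact ⟨(RDerNat.postExact (sheafToPresheaf J AddCommGrpCat.{u}) ((evaluation _ _).obj (op V)) p).symm ≪≫
    e.symm ≪≫ Functor.leftUnitor _⟩

theorem preservesColimit_Rpush (u' : D ⥤ C) [u'.IsContinuous K J] {ι : Type u} [SmallCategory ι]
    (F : ι ⥤ Sheaf J AddCommGrpCat.{u}) (p : ℕ)
    (h : ∀ V : D, ∃ (κ : Type u) (Y : κ → D) (g : ∀ k, Y k ⟶ V), Sieve.ofArrows Y g ∈ K V ∧
      ∀ k, PreservesColimit F ((Sheaf.cohomologyPresheafFunctor J p).flip.obj (op (u'.obj (Y k))))) :
    PreservesColimit F (CohSite.Rpush J K u' p) := by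
  let L := presheafToSheaf K AddCommGrpCat.{u}
  let S := sheafToPresheaf J AddCommGrpCat.{u}
  let W := (Functor.whiskeringLeft Dᵒᵖ Cᵒᵖ AddCommGrpCat.{u}).obj u'.op
  haveI : PreservesColimitsOfSize.{u, u} L := (sheafificationAdjunction K AddCommGrpCat.{u}).leftAdjoint_preservesColimits
  haveI : PreservesFiniteColimits L := PreservesColimitsOfSize.preservesFiniteColimits.{u, u} _
  haveI : PreservesFiniteColimits (W ⋙ L) := comp_preservesFiniteColimits _ _
  haveI : PreservesFiniteLimits (W ⋙ L) := comp_preservesFiniteLimits _ _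
  haveI : L.Additive := Functor.additive_of_preserves_binary_products _
  haveI : (W ⋙ L).Additive := Functor.additive_of_preserves_binary_products _
  let G := S.rightDerived p ⋙ W
  let eR : G ⋙ L ≅ CohSite.Rpush J K u' p :=
    (RDerNat.postExact S (W ⋙ L) p).symm ≪≫
      BigEt.rightDerivedCongr (Functor.isoWhiskerLeft (CohSite.push J K u')
        (asIso (sheafificationAdjunction K AddCommGrpCat.{u}).counit) : S ⋙ W ⋙ L ≅ CohSite.push J K u') p
  suffices PreservesColimit F (G ⋙ L) from preservesColimit_of_natIso F eR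
  let c := colimit.cocone F
  let d := colimit.cocone (F ⋙ G)
  let α : d.pt ⟶ G.obj c.pt := colimit.desc (F ⋙ G) (G.mapCocone c)
  have hα : ∀ (V : D) (Y : D), PreservesColimit F
      ((Sheaf.cohomologyPresheafFunctor J p).flip.obj (op (u'.obj Y))) → Function.Bijective (α.app (op Y)) := by
    intro _ Y hY
    obtain ⟨e⟩ := nonempty_eval_rightDerived (J := J) (u'.obj Y) p
    haveI : PreservesColimit F (G ⋙ (evaluation _ _).obj (op Y)) :=
      preservesColimit_of_natIso F (e.symm ≪≫ (Iso.refl _ : S.rightDerived p ⋙ (evaluation _ _).obj (op (u'.obj Y)) ≅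
        G ⋙ (evaluation _ _).obj (op Y)))
    let ev := (evaluation Dᵒᵖ AddCommGrpCat.{u}).obj (op Y)
    have h₁ : IsColimit (ev.mapCocone d) := isColimitOfPreserves ev (colimit.isColimit _)
    have h₂ : IsColimit ((G ⋙ ev).mapCocone c) := isColimitOfPreserves _ (colimit.isColimit F)
    let f : ev.mapCocone d ⟶ ev.mapCocone (G.mapCocone c) :=
      { hom := ev.map α
        w := fun j => (ev.map_comp _ _).symm.trans (congrArg ev.map (colimit.ι_desc (G.mapCocone c) j)) }
    haveI : IsIso f := h₁.hom_isIso (h₂ : IsColimit (ev.mapCocone (G.mapCocone c))) f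
    haveI : IsIso (α.app (op Y)) := inferInstanceAs (IsIso ((Cocone.forget _).map f))
    exact (ConcreteCategory.isIso_iff_bijective _).1 ‹_›
  haveI : Presheaf.IsLocallyInjective K α := ⟨fun {U} a b hab => by
    obtain ⟨κ, Yc, g, hg, hY⟩ := h U.unop
    refine K.superset_covering ?_ hg
    rw [Sieve.generate_le_iff]
    rintro W' q ⟨k⟩
    refine (hα U.unop (Yc k) (hY k)).1 ?_
    rw [NatTrans.naturality_apply α (g k).op, NatTrans.naturality_apply α (g k).op, hab]⟩
  haveI : Presheaf.IsLocallySurjective K α := ⟨fun {U} s => by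
    obtain ⟨κ, Yc, g, hg, hY⟩ := h U
    refine K.superset_covering ?_ hg
    rw [Sieve.generate_le_iff]
    rintro W' q ⟨k⟩
    exact (hα U (Yc k) (hY k)).2 _⟩
  haveI : IsIso (L.map α) := (K.W_iff _).1 ((K.W_iff_isLocallyBijective _).2 ⟨inferInstance, inferInstance⟩)
  refine preservesColimit_of_preserves_colimit_cocone (colimit.isColimit F) ?_
  refine IsColimit.ofIsoColimit (isColimitOfPreserves L (colimit.isColimit (F ⋙ G)))
    (Cocone.ext (asIso (L.map α)) fun j => ?_)
  exact (L.map_comp _ _).symm.trans (congrArg L.map (colimit.ι_desc (G.mapCocone c) j))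

end Groth.Agent.SiteCoh
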