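import Groth.Agent.SiteCoh.CechSS
import Groth.Agent.GrothSS.Degenerate

/-! # Leray: acyclic coverings compute cohomology -/

universe u

open CategoryTheory CategoryTheory.Limits CategoryTheory.Abelian Opposite

namespace Groth.Agent.SiteCoh

open Groth.Agent.CohAcyc Groth.Agent.GrothSS

variable {C : Type u} [SmallCategory C] [HasPullbacks C] (J : GrothendieckTopology C) {X : C} {ι : Type u}
  (Y : ι → Over X)

omit J in
lemma isZero_cechH_of_values (P : Cᵒᵖ ⥤ AddCommGrpCat.{u}) (p : ℕ)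
    (h : ∀ a : Fin (p + 1) → ι, Subsingleton (P.obj (op (∏ᶜ fun k => Y (a k)).left))) :
    IsZero (CohCx.cechH P Y p) := by
  apply ShortComplex.isZero_homology_of_isZero_X₂
  haveI : Subsingleton (evalPre (X := X) (botSh P) ((fam Y).cech.obj (op (SimplexCategory.mk p)))) :=
    have : ∀ i : ((fam Y).cech.obj (op (SimplexCategory.mk p))).I,
        Subsingleton (P.obj (op (((fam Y).cech.obj (op (SimplexCategory.mk p))).obj i).left)) := fun i => h i
    (compVal_bijective (botSh P) _).1.subsingleton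
  exact @AddCommGrpCat.isZero_of_subsingleton _ this

theorem nonempty_H0_presheaf (F : Ab J) : Nonempty (F.cohomologyPresheaf 0 ≅ F.obj) := by
  haveI : PreservesFiniteLimits (inclBot (C := C) J) :=
    haveI : PreservesLimitsOfSize.{0, 0} (inclBot (C := C) J) := (botAdj J).rightAdjoint_preservesLimits
    PreservesLimitsOfSize.preservesFiniteLimits.{0, 0} _
  exact ⟨(sheafToPresheaf (⊥ : GrothendieckTopology C) AddCommGrpCat.{u}).mapIso
    ((nonempty_rightDerived_inclBot J F 0).some.symm ≪≫ (inclBot J).rightDerivedZeroIsoSelf.app F)⟩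

/-- acyclic coverings compute cohomology -/
theorem nonempty_cechH_iso_HU (F : Ab J)
    (hY : Sieve.ofArrows (fun i => (Y i).left) (fun i => (Y i).hom) ∈ J X)
    (h : ∀ (p : ℕ) (a : Fin (p + 1) → ι) (q : ℕ),
      Subsingleton (CohSite.HU F (q + 1) (∏ᶜ fun k => Y (a k)).left)) (p : ℕ) :
    Nonempty (CohCx.cechH F.obj Y p ≅ AddCommGrpCat.of (CohSite.HU F p X)) := by
  obtain ⟨E, a, ha, -, hE⟩ := exists_spectralSequence_cech J Y F hY _ (isZero_zero AddCommGrpCat.{u})
  have hz : ∀ r q : ℤ, q ≠ 0 → IsZero ((E.page 2 le_rfl).X (r, q)) := fun r q hq => by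
    refine IsZero.of_iso ?_ (hE r q).some
    by_cases hrq : 0 ≤ r ∧ 0 ≤ q
    · rw [if_pos hrq]
      obtain ⟨m, hm⟩ : ∃ m, q.toNat = m + 1 := ⟨q.toNat - 1, by lia⟩
      rw [hm]
      exact isZero_cechH_of_values Y _ _ fun a => h _ a m
    · rw [if_neg hrq]; exact isZero_zero _
  obtain ⟨e⟩ := nonempty_iso_of_row E hz a (p : ℤ) (ha _)
  have e₂ : CohCx.cechH (F.cohomologyPresheaf 0) Y p ≅ (E.page 2 le_rfl).X ((p : ℤ), 0) :=
    eqToIso (by simp) ≪≫ ((hE p 0).some).symm
  have e₃ : (E.page 2 le_rfl).X ((p : ℤ), 0) ≅ AddCommGrpCat.of (CohSite.HU F p X) :=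
    e.symm ≪≫ eqToIso (by simp)
  exact ⟨(HomologicalComplex.homologyFunctor _ _ p).mapIso ((cechComplexFunctor Y).mapIso
    (Functor.isoWhiskerLeft (Over.forget X).op (nonempty_H0_presheaf J F).some.symm)) ≪≫ e₂ ≪≫ e₃⟩

end Groth.Agent.SiteCoh
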