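import Mathlib.CategoryTheory.Sites.SheafCohomology.Basic
import Mathlib.CategoryTheory.Sites.ConstantSheaf
import Mathlib.Algebra.Category.Grp.FilteredColimits
import Mathlib.Algebra.Category.Grp.Abelian
import Mathlib.Algebra.Homology.DerivedCategory.Ext.ExactSequences
import Mathlib.CategoryTheory.Sites.Abelian
import Mathlib.CategoryTheory.Sites.LeftExact
import Groth.Prelude.Def_CohSite

/-! # H^1 of constant sheaves -/

set_option autoImplicit false
set_option linter.all false
set_option synthInstance.maxHeartbeats 400000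
set_option backward.isDefEq.respectTransparency false
set_option backward.defeqAttrib.useBackward true

universe u

open CategoryTheory CategoryTheory.Limits CategoryTheory.Abelian Opposite

namespace Groth.Agent.SiteCoh

variable {C : Type u} [SmallCategory C] {J : GrothendieckTopology C}

theorem surjective_const_app {B Q : AddCommGrpCat.{u}} (g : B ⟶ Q) (hg : Function.Surjective g) (V : Cᵒᵖ) :
    Function.Surjective (((constantSheaf J AddCommGrpCat.{u}).map g).hom.app V) := by
  let P := fun A : AddCommGrpCat.{u} => (Functor.const Cᵒᵖ).obj A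
  let T := fun A : AddCommGrpCat.{u} => ((constantSheaf J AddCommGrpCat.{u}).obj A).obj
  let η := fun A : AddCommGrpCat.{u} => (toSheafify J (P A) : P A ⟶ T A)
  have hW : J.W (Functor.whiskerRight (η Q) (forget AddCommGrpCat.{u})) :=
    J.W_of_preservesSheafification (forget AddCommGrpCat.{u}) _ (J.W_toSheafify _)
  have hS : ∀ A : AddCommGrpCat.{u}, Presheaf.IsSheaf J (T A ⋙ forget AddCommGrpCat.{u}) := fun A =>
    (sheafCompose J (forget AddCommGrpCat.{u})).obj ((constantSheaf J AddCommGrpCat.{u}).obj A) |>.property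
  obtain ⟨s, hs⟩ := hg.hasRightInverse
  obtain ⟨t, ht⟩ := (hW _ (hS B)).2
    ({ app := fun U => TypeCat.ofHom (fun c : Q => (η B).app U (s c))
       naturality := fun U V f => by
         ext c
         exact (ConcreteCategory.congr_hom ((η B).naturality f) (s c)) } :
      P Q ⋙ forget AddCommGrpCat.{u} ⟶ T B ⋙ forget AddCommGrpCat.{u})
  have hsplit : t ≫ Functor.whiskerRight ((constantSheaf J AddCommGrpCat.{u}).map g).hom
      (forget AddCommGrpCat.{u}) = 𝟙 _ := by
    apply (hW _ (hS Q)).1
    show Functor.whiskerRight (η Q) _ ≫ t ≫ _ = Functor.whiskerRight (η Q) _ ≫ 𝟙 _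
    rw [← Category.assoc, show Functor.whiskerRight (η Q) _ ≫ t = _ from ht, Category.comp_id]
    ext U c
    refine (ConcreteCategory.congr_hom (congrArg (fun k => k.app U)
      ((sheafificationAdjunction J AddCommGrpCat.{u}).unit.naturality ((Functor.const Cᵒᵖ).map g))) (s c)).symm.trans ?_
    exact congrArg ((η Q).app U) (hs c)
  intro z
  exact ⟨t.app V z, (ConcreteCategory.congr_hom (NatTrans.congr_app hsplit V) z : _)⟩

theorem exists_lift_of_split {B Q : AddCommGrpCat.{u}} (g : B ⟶ Q) (hg : Function.Surjective g)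
    (q : (constantSheaf J AddCommGrpCat.{u}).obj (AddCommGrpCat.of (ULift.{u} ℤ)) ⟶
      (constantSheaf J AddCommGrpCat.{u}).obj Q) :
    ∃ y, y ≫ (constantSheaf J AddCommGrpCat.{u}).map g = q := by
  let P := fun A : AddCommGrpCat.{u} => (Functor.const Cᵒᵖ).obj A
  let T := fun A : AddCommGrpCat.{u} => ((constantSheaf J AddCommGrpCat.{u}).obj A).obj
  let η := fun A : AddCommGrpCat.{u} => (toSheafify J (P A) : P A ⟶ T A)
  have hW : J.W (Functor.whiskerRight (η Q) (forget AddCommGrpCat.{u})) :=
    J.W_of_preservesSheafification (forget AddCommGrpCat.{u}) _ (J.W_toSheafify _)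
  have hS : ∀ A : AddCommGrpCat.{u}, Presheaf.IsSheaf J (T A ⋙ forget AddCommGrpCat.{u}) := fun A =>
    (sheafCompose J (forget AddCommGrpCat.{u})).obj ((constantSheaf J AddCommGrpCat.{u}).obj A) |>.property
  obtain ⟨s, hs⟩ := hg.hasRightInverse
  obtain ⟨t, ht⟩ := (hW _ (hS B)).2
    ({ app := fun U => TypeCat.ofHom (fun c : Q => (η B).app U (s c))
       naturality := fun U V f => by
         ext c
         exact (ConcreteCategory.congr_hom ((η B).naturality f) (s c)) } :
      P Q ⋙ forget AddCommGrpCat.{u} ⟶ T B ⋙ forget AddCommGrpCat.{u})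
  have hsplit : t ≫ Functor.whiskerRight ((constantSheaf J AddCommGrpCat.{u}).map g).hom
      (forget AddCommGrpCat.{u}) = 𝟙 _ := by
    apply (hW _ (hS Q)).1
    show Functor.whiskerRight (η Q) _ ≫ t ≫ _ = Functor.whiskerRight (η Q) _ ≫ 𝟙 _
    rw [← Category.assoc, show Functor.whiskerRight (η Q) _ ≫ t = _ from ht, Category.comp_id]
    ext U c
    refine (ConcreteCategory.congr_hom (congrArg (fun k => k.app U)
      ((sheafificationAdjunction J AddCommGrpCat.{u}).unit.naturality ((Functor.const Cᵒᵖ).map g))) (s c)).symm.trans ?_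
    exact congrArg ((η Q).app U) (hs c)
  let one : AddCommGrpCat.of (ULift.{u} ℤ) := ULift.up 1
  let e := fun U : Cᵒᵖ => (η _ ≫ q.hom).app U one
  let yU := fun U : Cᵒᵖ => t.app U (e U)
  have hyU : ∀ {U V : Cᵒᵖ} (f : U ⟶ V), (T B).map f (yU U) = yU V := fun {U V} f => by
    refine (NatTrans.naturality_apply t f (e U)).symm.trans (congrArg (t.app V) ?_)
    exact (NatTrans.naturality_apply (η _ ≫ q.hom) f one).symm
  let y₀ : P (AddCommGrpCat.of (ULift.{u} ℤ)) ⟶ T B :=
    { app := fun U => AddCommGrpCat.ofHom ((zmultiplesHom _ (yU U)).comp AddEquiv.ulift.toAddMonoidHom)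
      naturality := fun U V f => by
        ext n
        show n.down • yU V = (T B).map f (n.down • yU U)
        rw [map_zsmul, hyU] }
  refine ⟨((sheafificationAdjunction J AddCommGrpCat.{u}).homEquiv _ _).symm y₀, ?_⟩
  apply ((sheafificationAdjunction J AddCommGrpCat.{u}).homEquiv _ _).injective
  rw [Adjunction.homEquiv_naturality_right, Equiv.apply_symm_apply]
  ext U n
  have h1 : ((constantSheaf J AddCommGrpCat.{u}).map g).hom.app U (yU U) = e U :=
    (ConcreteCategory.congr_hom (NatTrans.congr_app hsplit U) (e U) : _)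
  show ((constantSheaf J AddCommGrpCat.{u}).map g).hom.app U (n.down • yU U) = (η _ ≫ q.hom).app U n
  rw [map_zsmul, h1, ← map_zsmul]
  refine congrArg _ (show n.down • (ULift.up 1 : ULift.{u} ℤ) = n from ULift.ext _ _ ?_)
  simp

theorem injective_H_map_const {A B : AddCommGrpCat.{u}} (f : A ⟶ B) (hf : Function.Injective f) :
    Function.Injective (Sheaf.H.map ((constantSheaf J AddCommGrpCat.{u}).map f) 1) := by
  let L := constantSheaf J AddCommGrpCat.{u}
  haveI : PreservesFiniteLimits L := comp_preservesFiniteLimits _ _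
  haveI : PreservesFiniteColimits L := comp_preservesFiniteColimits _ _
  haveI : L.Additive := Functor.additive_of_preserves_binary_products _
  haveI : Mono f := (AddCommGrpCat.mono_iff_injective f).2 hf
  let S := ShortComplex.mk f (cokernel.π f) (cokernel.condition f)
  have hS : S.ShortExact :=
    { exact := ShortComplex.exact_of_g_is_cokernel _ (cokernelIsCokernel f)
      mono_f := inferInstanceAs (Mono f)
      epi_g := inferInstanceAs (Epi (cokernel.π f)) }
  have hLS := hS.map_of_exact L
  rw [injective_iff_map_eq_zero]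
  intro x hx
  obtain ⟨q, hq⟩ := Ext.covariant_sequence_exact₁ _ hLS x hx (rfl : 0 + 1 = 1)
  obtain ⟨q, rfl⟩ := Ext.addEquiv₀.symm.surjective q
  change (Ext.mk₀ q).comp hLS.extClass _ = x at hq
  subst hq
  obtain ⟨y, rfl⟩ := exists_lift_of_split (J := J) (cokernel.π f)
    ((AddCommGrpCat.epi_iff_surjective _).1 inferInstance) q
  rw [← Ext.mk₀_comp_mk₀, Ext.comp_assoc _ _ _ (zero_add 0) (zero_add 1) (by omega)]
  erw [hLS.comp_extClass]
  rw [Ext.comp_zero]

end Groth.Agent.SiteCoh
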