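import Groth.Agent.SiteCoh.ConstH1
import Mathlib.Algebra.Module.LocalizedModule.Basic
import Mathlib.CategoryTheory.Preadditive.Injective.Basic
import Mathlib.CategoryTheory.Sites.EpiMono
import Mathlib.CategoryTheory.Abelian.GrothendieckCategory.EnoughInjectives
import Mathlib.Algebra.Homology.DerivedCategory.Ext.EnoughInjectives

/-! # Torsion in H^1 of a constant sheaf -/

set_option autoImplicit false
set_option linter.all false
set_option backward.isDefEq.respectTransparency false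
set_option backward.defeqAttrib.useBackward true
set_option synthInstance.maxHeartbeats 400000

universe u

open CategoryTheory CategoryTheory.Limits CategoryTheory.Abelian Opposite

namespace Groth.Agent.SiteCoh

variable {C : Type u} [SmallCategory C] {J : GrothendieckTopology C}

/-- the constant sheaf of integers -/
noncomputable abbrev Zc (J : GrothendieckTopology C) : Sheaf J AddCommGrpCat.{u} :=
  (constantSheaf J AddCommGrpCat.{u}).obj (AddCommGrpCat.of (ULift.{u} ℤ))

/-- the section one -/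
noncomputable def constOne (V : Cᵒᵖ) : ((constantSheaf J AddCommGrpCat.{u}).obj (AddCommGrpCat.of (ULift.{u} ℤ))).obj.obj V :=
  (toSheafify J ((Functor.const Cᵒᵖ).obj (AddCommGrpCat.of (ULift.{u} ℤ)))).app V (ULift.up 1 : ULift.{u} ℤ)

lemma map_constOne {V W : Cᵒᵖ} (h : V ⟶ W) : (Zc J).obj.map h (constOne (J := J) V) = constOne W :=
  ((toSheafify J ((Functor.const Cᵒᵖ).obj (AddCommGrpCat.of (ULift.{u} ℤ)))).naturality_apply h _).symm

lemma subsingleton_of_zsmul_constOne (k : ℤ) (hk : k ≠ 0) (W : C) (h : k • constOne (J := J) (op W) = 0)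
    (F : Sheaf J AddCommGrpCat.{u}) : ∀ a b : F.obj.obj (op W), a = b := by
  intro a b
  let η := toSheafify J ((Functor.const Cᵒᵖ).obj (AddCommGrpCat.of (ULift.{u} ℤ)))
  haveI : Presheaf.IsLocallyInjective J η := (J.W_toSheafify _).isLocallyInjective
  have h0 : η.app (op W) (k • (ULift.up 1 : ULift.{u} ℤ)) = η.app (op W) 0 := by
    rw [map_zero]
    exact (map_zsmul (η.app (op W)).hom k (ULift.up 1 : ULift.{u} ℤ)).trans h
  have hS := Presheaf.equalizerSieve_mem J η _ _ h0
  refine (((isSheaf_iff_isSheaf_of_type J _).1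
    (((sheafCompose J (forget AddCommGrpCat.{u})).obj F).property)) _ hS).isSeparatedFor.ext fun Y f hf => ?_
  exfalso
  apply hk
  have h1 : k • (ULift.up 1 : ULift.{u} ℤ) = 0 := hf
  have h2 := congrArg ULift.down h1
  simpa using h2

theorem eq_zero_of_divisible {D : Sheaf J AddCommGrpCat.{u}}
    (hD : ∀ (N : ℤ), N ≠ 0 → ∀ V : Cᵒᵖ, Function.Bijective (fun d : D.obj.obj V => N • d))
    (φ : Zc J ⟶ Zc J) {ι : Type u} (U : ι → C) (n : ι → ℤ) (hn : ∀ i, n i ≠ 0)
    (hφ : ∀ (i : ι) (V : C) (_ : V ⟶ U i), φ.hom.app (op V) = n i • 𝟙 _)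
    (hcov : ∀ V : C, ∃ R ∈ J V, ∀ ⦃W : C⦄ (g : W ⟶ V), R g → ∃ i, Nonempty (W ⟶ U i))
    (x : Ext.{u} (Zc J) D 1) (hx : (Ext.mk₀ φ).comp x (zero_add 1) = 0) : x = 0 := by
  let S := ShortComplex.mk (Injective.ι D) (cokernel.π (Injective.ι D)) (cokernel.condition _)
  have hS : S.ShortExact :=
    { exact := ShortComplex.exact_of_g_is_cokernel _ (cokernelIsCokernel _)
      mono_f := inferInstanceAs (Mono (Injective.ι D))
      epi_g := inferInstanceAs (Epi (cokernel.π _)) }
  obtain ⟨q, hq⟩ := Ext.covariant_sequence_exact₁ (Zc J) hS x (Ext.eq_zero_of_injective _) (rfl : 0 + 1 = 1)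
  obtain ⟨q, rfl⟩ := Ext.addEquiv₀.symm.surjective q
  change (Ext.mk₀ q).comp hS.extClass _ = x at hq
  subst hq
  rw [← Ext.comp_assoc _ _ _ (zero_add 0) (zero_add 1) (by omega), Ext.mk₀_comp_mk₀] at hx
  obtain ⟨t, ht⟩ := Ext.covariant_sequence_exact₃ (Zc J) hS (Ext.mk₀ (φ ≫ q)) rfl hx
  obtain ⟨t, rfl⟩ := Ext.addEquiv₀.symm.surjective t
  replace ht : t ≫ S.g = φ ≫ q := (Ext.mk₀_bijective _ _).1 ((Ext.mk₀_comp_mk₀ _ _).symm.trans ht)
  suffices hs : ∃ s : Zc J ⟶ S.X₂, s ≫ S.g = q by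
    obtain ⟨s, rfl⟩ := hs
    rw [← Ext.mk₀_comp_mk₀, Ext.comp_assoc _ _ _ (zero_add 0) (zero_add 1) (by omega),
      show (Ext.mk₀ S.g).comp hS.extClass (zero_add 1) = 0 from hS.comp_extClass, Ext.comp_zero]
  let ι' := S.f.hom
  let g := S.g.hom
  let qV := fun V => q.hom.app V (constOne V)
  let tV := fun V => t.hom.app V (constOne V)
  have hφ1 : ∀ (i : ι) (V : C), (V ⟶ U i) → φ.hom.app (op V) (constOne (op V)) = n i • constOne (op V) := fun i V h => by
    rw [hφ i V h]; rfl
  have hgt : ∀ (i : ι) (V : C), (V ⟶ U i) → g.app (op V) (tV (op V)) = n i • qV (op V) := fun i V h => by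
    refine (ConcreteCategory.congr_hom (congrArg (fun k : Zc J ⟶ S.X₃ => k.hom.app (op V)) ht) (constOne (op V))).trans ?_
    show q.hom.app (op V) (φ.hom.app (op V) (constOne (op V))) = _
    rw [hφ1 i V h, map_zsmul]
  let G := sheafToPresheaf J AddCommGrpCat.{u} ⋙ (Functor.whiskeringRight Cᵒᵖ AddCommGrpCat.{u} (Type u)).obj (forget _)
  have hsh : ∀ (F : Sheaf J AddCommGrpCat.{u}), Presieve.IsSheaf J (F.obj ⋙ forget AddCommGrpCat.{u}) := fun F =>
    (isSheaf_iff_isSheaf_of_type J _).1 (((sheafCompose J (forget AddCommGrpCat.{u})).obj F).property)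
  -- exactness on sections
  haveI : PreservesLimitsOfSize.{0, 0} (sheafToPresheaf J AddCommGrpCat.{u}) := (sheafificationAdjunction J AddCommGrpCat.{u}).rightAdjoint_preservesLimits
  haveI : PreservesFiniteLimits (sheafToPresheaf J AddCommGrpCat.{u}) := PreservesLimitsOfSize.preservesFiniteLimits.{0, 0} _
  have hex : ∀ (V : Cᵒᵖ), Function.Injective (ι'.app V) ∧ ∀ e, g.app V e = 0 → ∃ d, ι'.app V d = e := by
    intro V
    let ev := sheafToPresheaf J AddCommGrpCat.{u} ⋙ (evaluation _ _).obj V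
    haveI : PreservesFiniteLimits ev := comp_preservesFiniteLimits _ _
    haveI : ev.Additive := Functor.additive_of_preserves_binary_products _
    have h := ((Functor.preservesFiniteLimits_tfae ev).out 3 0 : PreservesFiniteLimits ev ↔
      ∀ T : ShortComplex (Sheaf J AddCommGrpCat.{u}), T.ShortExact → (T.map ev).Exact ∧ Mono (ev.map T.f)).1 inferInstance S hS
    exact ⟨(AddCommGrpCat.mono_iff_injective _).1 h.2, fun e he => (S.map ev).ab_exact_iff.1 h.1 e he⟩
  let P : ∀ V : C, S.X₂.obj.obj (op V) → Prop := fun V e =>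
    g.app (op V) e = qV (op V) ∧ ∀ (W : C) (h : W ⟶ V) (i : ι), (W ⟶ U i) → n i • S.X₂.obj.map h.op e = tV (op W)
  have huniq : ∀ (V : C) (e e' : S.X₂.obj.obj (op V)), P V e → P V e' → e = e' := by
    intro V e e' he he'
    obtain ⟨R, hR, hRU⟩ := hcov V
    refine (hsh S.X₂ R hR).isSeparatedFor.ext fun W h hh => ?_
    obtain ⟨i, ⟨a⟩⟩ := hRU h hh
    obtain ⟨d, hd⟩ := (hex (op W)).2 (S.X₂.obj.map h.op e - S.X₂.obj.map h.op e') (by
      rw [map_sub, NatTrans.naturality_apply g h.op, NatTrans.naturality_apply g h.op, he.1, he'.1, sub_self])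
    have hd0 : d = 0 := (hD _ (hn i) (op W)).1 ((hex (op W)).1 (by
      show ι'.app (op W) (n i • d) = ι'.app (op W) (n i • 0)
      rw [map_zsmul, map_zsmul, map_zero, smul_zero, hd, smul_sub, he.2 W h i a, he'.2 W h i a, sub_self]))
    rw [hd0, map_zero] at hd
    exact sub_eq_zero.1 hd.symm
  haveI : Epi S.g := hS.epi_g
  haveI : Presheaf.IsLocallySurjective J g := (Sheaf.isLocallySurjective_iff_epi' AddCommGrpCat.{u} S.g).2 inferInstance
  have hloc : ∀ (V : C) (i : ι), (V ⟶ U i) → ∀ e0, g.app (op V) e0 = qV (op V) → ∃ e, P V e := by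
    intro V i a e0 he0
    obtain ⟨d0, hd0⟩ := (hex (op V)).2 (tV (op V) - n i • e0) (by rw [map_sub, map_zsmul, he0, hgt i V a, sub_self])
    obtain ⟨d, rfl⟩ := (hD _ (hn i) (op V)).2 d0
    have hNe : n i • (e0 + ι'.app (op V) d) = tV (op V) := by
      rw [smul_add, ← map_zsmul, hd0, add_sub_cancel]
    refine ⟨e0 + ι'.app (op V) d, ?_, fun W h j b => ?_⟩
    · rw [map_add, he0, show g.app (op V) (ι'.app (op V) d) = 0 from
        ConcreteCategory.congr_hom (congrArg (fun k : S.X₁ ⟶ S.X₃ => k.hom.app (op V)) S.zero) d, add_zero]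
    · by_cases hij : n j = n i
      · rw [hij, ← map_zsmul, hNe]
        exact (NatTrans.naturality_apply t.hom h.op (constOne (op V))).symm.trans (congrArg _ (map_constOne h.op))
      · refine subsingleton_of_zsmul_constOne (n j - n i) (sub_ne_zero.2 hij) W ?_ S.X₂ _ _
        rw [sub_smul, ← hφ1 j W b, ← hφ1 i W (h ≫ a), sub_self]
  have hres : ∀ {V W : C} (h : W ⟶ V) (e : S.X₂.obj.obj (op V)), P V e → P W (S.X₂.obj.map h.op e) := by
    intro V W h e he
    refine ⟨?_, fun W' k i a => ?_⟩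
    · rw [NatTrans.naturality_apply g h.op, he.1]
      exact (NatTrans.naturality_apply q.hom h.op (constOne (op V))).symm.trans (congrArg _ (map_constOne h.op))
    · rw [← ConcreteCategory.comp_apply, ← Functor.map_comp, ← op_comp]
      exact he.2 W' (k ≫ h) i a
  have hglob : ∀ V : C, ∃ e, P V e := by
    intro V
    obtain ⟨R, hR, hRU⟩ := hcov V
    let T : Sieve V := R ⊓ Presheaf.imageSieve g (qV (op V))
    have hT : T ∈ J V := J.intersection_covering hR (Presheaf.imageSieve_mem J g _)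
    have hl : ∀ ⦃W : C⦄ (h : W ⟶ V), T h → ∃ e, P W e := by
      intro W h hh
      obtain ⟨i, ⟨a⟩⟩ := hRU h hh.1
      obtain ⟨e0, he0⟩ := hh.2
      exact hloc W i a e0 (he0.trans ((NatTrans.naturality_apply q.hom h.op (constOne (op V))).symm.trans (congrArg _ (map_constOne h.op))))
    choose y hy using hl
    obtain ⟨e, he, -⟩ := hsh S.X₂ T hT (fun W h hh => y h hh) (fun W₁ W₂ Z k₁ k₂ h₁ h₂ hh₁ hh₂ heq =>
      huniq Z _ _ (hres k₁ _ (hy h₁ hh₁)) (hres k₂ _ (hy h₂ hh₂)))
    refine ⟨e, (hsh S.X₃ T hT).isSeparatedFor.ext fun W h hh => ?_, fun W h i a => ?_⟩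
    · refine (NatTrans.naturality_apply g h.op e).symm.trans ((congrArg (g.app (op W)) (he h hh)).trans ((hy h hh).1.trans ?_))
      exact (congrArg (q.hom.app (op W)) (map_constOne h.op)).symm.trans (NatTrans.naturality_apply q.hom h.op _)
    · refine (hsh S.X₂ _ (J.pullback_stable h hT)).isSeparatedFor.ext fun Z k hk => ?_
      show S.X₂.obj.map k.op (n i • S.X₂.obj.map h.op e) = S.X₂.obj.map k.op (tV (op W))
      rw [map_zsmul, ← ConcreteCategory.comp_apply, ← Functor.map_comp, ← op_comp,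
        show S.X₂.obj.map (k ≫ h).op e = y (k ≫ h) hk from he (k ≫ h) hk]
      have := (hy (k ≫ h) hk).2 Z (𝟙 Z) i (k ≫ a)
      rw [op_id, CategoryTheory.Functor.map_id] at this
      exact this.trans ((congrArg (t.hom.app (op Z)) (map_constOne k.op)).symm.trans (NatTrans.naturality_apply t.hom k.op _))
  choose e he using hglob
  let y₀ : (Functor.const Cᵒᵖ).obj (AddCommGrpCat.of (ULift.{u} ℤ)) ⟶ S.X₂.obj :=
    { app := fun V => AddCommGrpCat.ofHom ((zmultiplesHom _ (e V.unop)).comp AddEquiv.ulift.toAddMonoidHom)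
      naturality := fun V W f => by
        ext k
        show k.down • e W.unop = S.X₂.obj.map f (k.down • e V.unop)
        rw [map_zsmul, huniq W.unop (S.X₂.obj.map f (e V.unop)) (e W.unop) (hres f.unop _ (he V.unop)) (he W.unop)] }
  refine ⟨((sheafificationAdjunction J AddCommGrpCat.{u}).homEquiv _ _).symm y₀, ?_⟩
  apply ((sheafificationAdjunction J AddCommGrpCat.{u}).homEquiv _ _).injective
  rw [Adjunction.homEquiv_naturality_right, Equiv.apply_symm_apply]
  ext V k
  show g.app V (k.down • e V.unop) = (toSheafify J _ ≫ q.hom).app V k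
  rw [map_zsmul, (he V.unop).1]
  refine (map_zsmul ((toSheafify J _ ≫ q.hom).app V).hom k.down (ULift.up 1 : ULift.{u} ℤ)).symm.trans ?_
  refine congrArg _ (show k.down • (ULift.up 1 : ULift.{u} ℤ) = k from ULift.ext _ _ ?_)
  simp

theorem eq_zero_of_torsionFree {A : Type u} [AddCommGroup A] (hA : ∀ (m : ℤ) (a : A), m ≠ 0 → m • a = 0 → a = 0)
    (φ : Zc J ⟶ Zc J) {ι : Type u} (U : ι → C) (n : ι → ℤ) (hn : ∀ i, n i ≠ 0)
    (hφ : ∀ (i : ι) (V : C) (_ : V ⟶ U i), φ.hom.app (op V) = n i • 𝟙 _)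
    (hcov : ∀ V : C, ∃ R ∈ J V, ∀ ⦃W : C⦄ (g : W ⟶ V), R g → ∃ i, Nonempty (W ⟶ U i))
    (x : Sheaf.H ((constantSheaf J AddCommGrpCat.{u}).obj (AddCommGrpCat.of A)) 1)
    (hx : (Ext.mk₀ φ).comp x (zero_add 1) = 0) : x = 0 := by
  let M := nonZeroDivisors ℤ
  let Q := LocalizedModule M A
  let f : AddCommGrpCat.of A ⟶ AddCommGrpCat.of Q := AddCommGrpCat.ofHom (LocalizedModule.mkLinearMap M A).toAddMonoidHom
  have hf : Function.Injective f := by
    intro a b hab
    obtain ⟨c, hc⟩ := (LocalizedModule.mk_eq.1 hab)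
    refine sub_eq_zero.1 (hA c.1 _ (nonZeroDivisors.ne_zero c.2) ?_)
    rw [smul_sub, sub_eq_zero]
    simpa [Submonoid.smul_def] using hc
  let L := constantSheaf J AddCommGrpCat.{u}
  haveI : PreservesFiniteLimits L := comp_preservesFiniteLimits _ _
  haveI : L.Additive := Functor.additive_of_preserves_binary_products _
  have hQ : ∀ (N : ℤ), N ≠ 0 → ∀ V : Cᵒᵖ, Function.Bijective (fun d : (L.obj (AddCommGrpCat.of Q)).obj.obj V => N • d) := by
    intro N hN V
    have hb : Function.Bijective (fun d : Q => N • d) := by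
      obtain ⟨u, hu⟩ := IsLocalizedModule.map_units (LocalizedModule.mkLinearMap M A)
        ⟨N, mem_nonZeroDivisors_of_ne_zero hN⟩
      have key : ∀ d : Q, N • d = u.val d := fun d => by
        rw [hu]
        rw [Module.algebraMap_end_apply]
        exact (@int_smul_eq_zsmul Q _ OreLocalization.instModuleOfIsScalarTower N d).symm
      rw [funext key]
      refine Function.bijective_iff_has_inverse.2 ⟨u.inv, fun d => ?_, fun d => ?_⟩
      · exact DFunLike.congr_fun u.inv_val d
      · exact DFunLike.congr_fun u.val_inv d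
    haveI : IsIso (N • 𝟙 (AddCommGrpCat.of Q)) := (ConcreteCategory.isIso_iff_bijective _).2 hb
    haveI : IsIso ((L ⋙ sheafToPresheaf J AddCommGrpCat.{u} ⋙ (evaluation _ _).obj V).map (N • 𝟙 (AddCommGrpCat.of Q))) := inferInstance
    have h1 := (ConcreteCategory.isIso_iff_bijective ((L ⋙ sheafToPresheaf J AddCommGrpCat.{u} ⋙ (evaluation _ _).obj V).map (N • 𝟙 (AddCommGrpCat.of Q)))).1 inferInstance
    rw [Functor.map_zsmul, CategoryTheory.Functor.map_id] at h1
    exact h1
  refine injective_H_map_const (J := J) f hf ?_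
  rw [map_zero]
  refine eq_zero_of_divisible hQ φ U n hn hφ hcov _ ?_
  show (Ext.mk₀ φ).comp (x.comp (Ext.mk₀ (L.map f)) (add_zero 1)) (zero_add 1) = 0
  rw [← Ext.comp_assoc _ _ _ (zero_add 1) (add_zero 1) (by omega), hx, Ext.zero_comp]

end Groth.Agent.SiteCoh
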