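import Groth.Agent.SiteCoh.PreFree
import Groth.Agent.CohAcyc.Free

/-! # Čech cohomology of presheaves is `Ext` on presheaves -/

universe u

open CategoryTheory CategoryTheory.Limits CategoryTheory.Abelian Opposite AlgebraicTopology
open scoped Simplicial

namespace Groth.Agent.SiteCoh

open Groth.Agent.CohAcyc

variable {C : Type u} [SmallCategory C] [HasPullbacks C] {X : C} {ι : Type u} (Y : ι → Over X)

/-- the sieve of a family as a presheaf of sets -/
abbrev sieveSh : SetPre C :=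
  ⟨(Sieve.ofArrows (fun i => (Y i).left) (fun i => (Y i).hom)).functor, Presheaf.isSheaf_bot _⟩

/-- the family as a formal coproduct -/
abbrev fam : FormalCoproduct.{u} (Over X) := FormalCoproduct.mk ι Y

/-- points map onto the sieve -/
noncomputable def famMap : (pts X).obj (fam Y) ⟶ sieveSh Y :=
  ⟨{ app := fun V => ↾fun x => ⟨x.2 ≫ (Y x.1).hom, ⟨_, x.2, _, ⟨x.1⟩, rfl⟩⟩
     naturality := fun V W g => ConcreteCategory.hom_ext _ _ fun ⟨i, h⟩ => Subtype.ext (Category.assoc g.unop h _) }⟩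

instance epi_famMap : Epi (famMap Y) := by
  haveI : Sheaf.IsLocallySurjective (famMap Y) :=
    Presheaf.isLocallySurjective_of_surjective _ (famMap Y).hom fun V => by
      rintro ⟨_, _, h, _, hi, rfl⟩
      cases hi with | mk i => exact ⟨(⟨i, h⟩ : Σ i, V.unop ⟶ (Y i).left), rfl⟩
  exact (Sheaf.isLocallySurjective_iff_epi _).1 inferInstance

/-- the `n`-th power of the family -/
noncomputable abbrev pw (n : ℕ) : FormalCoproduct.{u} (Over X) := (fam Y).power (Fin (n + 1))

/-- the `n`-th term of the nerve -/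
noncomputable abbrev nv (n : ℕ) : SetPre C :=
  widePullback.{0} (sieveSh Y) (fun _ : Fin (n + 1) => (pts X).obj (fam Y)) fun _ => famMap Y

lemma proj_famMap (n : ℕ) (k : Fin (n + 1)) :
    (pts X).map ((fam Y).powerπ k) ≫ famMap Y = (pts X).map ((fam Y).powerπ (0 : Fin (n + 1))) ≫ famMap Y := by
  refine Sheaf.hom_ext (NatTrans.ext (funext fun V => ConcreteCategory.hom_ext _ _ fun ⟨a, h⟩ => Subtype.ext ?_))
  show (h ≫ (Pi.π ((fam Y).obj ∘ a) k).left) ≫ ((fam Y).obj (a k)).hom =
    (h ≫ (Pi.π ((fam Y).obj ∘ a) 0).left) ≫ ((fam Y).obj (a 0)).hom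
  refine (Category.assoc _ _ _).trans (Eq.trans ?_ (Category.assoc _ _ _).symm)
  exact congrArg (h ≫ ·) ((Over.w _).trans (Over.w _).symm)

/-- points of the powers map to the nerve -/
noncomputable def toNerve (n : ℕ) : (pts X).obj (pw Y n) ⟶ nv Y n :=
  WidePullback.lift ((pts X).map ((fam Y).powerπ (0 : Fin (n + 1))) ≫ famMap Y)
    (fun k => (pts X).map ((fam Y).powerπ k)) (proj_famMap Y n)

lemma toNerve_π (n : ℕ) (k : Fin (n + 1)) :
    toNerve Y n ≫ WidePullback.π (fun _ : Fin (n + 1) => famMap Y) k = (pts X).map ((fam Y).powerπ k) :=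
  WidePullback.lift_π _ _ _ _ _

lemma toNerve_base (n : ℕ) (k : Fin (n + 1)) :
    toNerve Y n ≫ WidePullback.base (fun _ : Fin (n + 1) => famMap Y) =
      (pts X).map ((fam Y).powerπ k) ≫ famMap Y :=
  (WidePullback.lift_base _ _ _ _).trans (proj_famMap Y n k).symm

/-- a section as a map from a representable -/
noncomputable def ofSection {W : SetPre C} {V : C} (x : W.obj.obj (op V)) :
    (⟨yoneda.obj V, Presheaf.isSheaf_bot _⟩ : SetPre C) ⟶ W := ⟨yonedaEquiv.symm x⟩

lemma ofSection_app {W : SetPre C} {V : C} (x : W.obj.obj (op V)) :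
    (ofSection x).hom.app (op V) (𝟙 V) = x :=
  (yonedaEquiv.apply_symm_apply x : _)

lemma ofSection_comp {W W' : SetPre C} {V : C} (x : W.obj.obj (op V)) (m : W ⟶ W') :
    ofSection x ≫ m = ofSection (m.hom.app (op V) x) := by
  refine Sheaf.hom_ext (yonedaEquiv.injective ?_)
  exact (congrArg (m.hom.app (op V)) (ofSection_app x)).trans (ofSection_app _).symm

lemma toNerve_bijective (n : ℕ) (V : C) : Function.Bijective ((toNerve Y n).hom.app (op V)) := by
  have hproj : ∀ (y : ((pts X).obj (pw Y n)).obj.obj (op V)) (k : Fin (n + 1)),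
      (WidePullback.π (fun _ : Fin (n + 1) => famMap Y) k).hom.app (op V) ((toNerve Y n).hom.app (op V) y) =
        ((pts X).map ((fam Y).powerπ k)).hom.app (op V) y := fun y k =>
    ConcreteCategory.congr_hom (congrArg (fun m : _ ⟶ (pts X).obj (fam Y) => m.hom.app (op V)) (toNerve_π Y n k)) y
  refine ⟨?_, fun x => ?_⟩
  · rintro ⟨a, h⟩ ⟨b, h'⟩ e
    have hk : ∀ k : Fin (n + 1), (⟨a k, h ≫ (Pi.π ((fam Y).obj ∘ a) k).left⟩ : Σ i, V ⟶ ((fam Y).obj i).left) =
        ⟨b k, h' ≫ (Pi.π ((fam Y).obj ∘ b) k).left⟩ := fun k =>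
      (hproj ⟨a, h⟩ k).symm.trans ((congrArg _ e).trans (hproj ⟨b, h'⟩ k))
    obtain rfl : a = b := funext fun k => congrArg Sigma.fst (hk k)
    refine congrArg (fun z => (⟨a, z⟩ : Σ a : Fin (n + 1) → ι, V ⟶ (∏ᶜ ((fam Y).obj ∘ a)).left)) ?_
    have h0 : h ≫ (Pi.π ((fam Y).obj ∘ a) 0).left = h' ≫ (Pi.π ((fam Y).obj ∘ a) 0).left :=
      eq_of_heq (Sigma.ext_iff.1 (hk 0)).2
    have hb : h' ≫ (∏ᶜ ((fam Y).obj ∘ a)).hom = h ≫ (∏ᶜ ((fam Y).obj ∘ a)).hom := by
      have hw := Over.w (Pi.π ((fam Y).obj ∘ a) 0)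
      exact ((congrArg (h' ≫ ·) hw.symm).trans ((Category.assoc _ _ _).symm.trans
        ((congrArg (· ≫ _) h0.symm).trans ((Category.assoc _ _ _).trans (congrArg (h ≫ ·) hw)))))
    have : (Over.homMk h rfl : Over.mk (h ≫ (∏ᶜ ((fam Y).obj ∘ a)).hom) ⟶ ∏ᶜ ((fam Y).obj ∘ a)) =
        Over.homMk h' hb := by
      apply Pi.hom_ext
      intro k
      exact Over.OverMorphism.ext (eq_of_heq (Sigma.ext_iff.1 (hk k)).2)
    exact congrArg (fun m => m.left) this
  · let p : Fin (n + 1) → Σ i, V ⟶ ((fam Y).obj i).left := fun k =>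
      (WidePullback.π (fun _ : Fin (n + 1) => famMap Y) k).hom.app (op V) x
    let g : V ⟶ X := ((WidePullback.base (fun _ : Fin (n + 1) => famMap Y)).hom.app (op V) x).1
    have hg : ∀ k, (p k).2 ≫ ((fam Y).obj (p k).1).hom = g := fun k =>
      congrArg Subtype.val (ConcreteCategory.congr_hom
        (congrArg (fun m : nv Y n ⟶ sieveSh Y => m.hom.app (op V))
          (WidePullback.π_arrow (fun _ : Fin (n + 1) => famMap Y) k)) x :)
    let q : (k : Fin (n + 1)) → (Over.mk g ⟶ ((fam Y).obj ∘ fun k => (p k).1) k) := fun k => Over.homMk (p k).2 (hg k)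
    let y : ((pts X).obj (pw Y n)).obj.obj (op V) :=
      (⟨fun k => (p k).1, (Pi.lift q).left⟩ :
        Σ a : Fin (n + 1) → ι, V ⟶ (∏ᶜ ((fam Y).obj ∘ a)).left)
    have hy : ∀ k, ((pts X).map ((fam Y).powerπ k)).hom.app (op V) y = p k := fun k =>
      congrArg (fun z : V ⟶ ((fam Y).obj (p k).1).left => (⟨(p k).1, z⟩ : Σ i, V ⟶ ((fam Y).obj i).left))
        (congrArg (fun t : Over.mk g ⟶ (fam Y).obj (p k).1 => t.left) (Pi.lift_π q k))
    refine ⟨y, ?_⟩
    refine (ofSection_app _).symm.trans ((congrArg (fun m : (⟨yoneda.obj V, Presheaf.isSheaf_bot _⟩ : SetPre C) ⟶ nv Y n => m.hom.app (op V) (𝟙 V)) ?_).trans (ofSection_app x))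
    have hk : ∀ k : Fin (n + 1), ofSection ((toNerve Y n).hom.app (op V) y) ≫ WidePullback.π (fun _ : Fin (n + 1) => famMap Y) k =
        ofSection x ≫ WidePullback.π (fun _ : Fin (n + 1) => famMap Y) k := fun k => by
      rw [ofSection_comp, ofSection_comp, hproj, hy]
    refine WidePullback.hom_ext (arrows := fun _ : Fin (n + 1) => famMap Y) _ _ hk ?_
    rw [← WidePullback.π_arrow (fun _ : Fin (n + 1) => famMap Y) 0, ← Category.assoc, ← Category.assoc, hk]

lemma isIso_toNerve (n : ℕ) : IsIso (toNerve Y n) := by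
  haveI : ∀ V, IsIso ((toNerve Y n).hom.app V) := fun V =>
    (isIso_iff_bijective _).2 (toNerve_bijective Y n V.unop)
  haveI : IsIso ((sheafToPresheaf (⊥ : GrothendieckTopology C) (Type u)).map (toNerve Y n)) :=
    NatIso.isIso_of_isIso_app (toNerve Y n).hom
  exact isIso_of_reflects_iso _ (sheafToPresheaf (⊥ : GrothendieckTopology C) (Type u))

lemma toNerve_natural {n m : ℕ} (g : Fin (m + 1) → Fin (n + 1))
    (w : ∀ k, WidePullback.π (fun _ : Fin (n + 1) => famMap Y) (g k) ≫ famMap Y =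
      WidePullback.base (fun _ : Fin (n + 1) => famMap Y)) :
    (pts X).map ((fam Y).mapPower g) ≫ toNerve Y m =
      toNerve Y n ≫ WidePullback.lift (WidePullback.base _) (fun k => WidePullback.π _ (g k)) w := by
  have hp : ∀ k, (pts X).map ((fam Y).mapPower g) ≫ (pts X).map ((fam Y).powerπ k) =
      (pts X).map ((fam Y).powerπ (g k)) := fun k =>
    ((pts X).map_comp _ _).symm.trans (congrArg (pts X).map (FormalCoproduct.mapPower_π (fam Y) g k))
  apply WidePullback.hom_ext
  · intro k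
    rw [Category.assoc, Category.assoc, toNerve_π, WidePullback.lift_π, toNerve_π, hp]
  · rw [Category.assoc, Category.assoc, toNerve_base Y m 0, WidePullback.lift_base, toNerve_base Y n (g 0),
      ← Category.assoc, hp]

/-- points of the Čech object are the Čech nerve of the map onto the sieve -/
noncomputable def nerveIso : (fam Y).cech ⋙ pts X ≅ (Arrow.mk (famMap Y)).cechNerve :=
  NatIso.ofComponents (fun n => @asIso _ _ _ _ (toNerve Y n.unop.len) (isIso_toNerve Y n.unop.len))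
    (fun {n m} g => toNerve_natural Y (n := n.unop.len) (m := m.unop.len) g.unop.toOrderHom
      fun _ => WidePullback.π_arrow _ _)

/-- Čech cohomology of presheaves is `Ext` out of the free presheaf on the sieve. -/
theorem nonempty_cechH_iso (M : Cᵒᵖ ⥤ AddCommGrpCat.{u}) (q : ℕ) :
    Nonempty (CohCx.cechH M Y q ≅ AddCommGrpCat.of (CohCx.HK (J := (⊥ : GrothendieckTopology C))
      ⟨(Sieve.ofArrows (fun i => (Y i).left) (fun i => (Y i).hom)).functor, Presheaf.isSheaf_bot _⟩
      ⟨M, Presheaf.isSheaf_bot _⟩ q)) := by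
  let π : freeCx (fam Y).cech ⟶ (ChainComplex.single₀ _).obj ((zF (⊥ : GrothendieckTopology C)).obj (sieveSh Y)) :=
    ((alternatingFaceMapComplex _).mapIso (Functor.isoWhiskerRight (nerveIso Y) (zF _))).hom ≫
      AlternatingFaceMapComplex.ε.app (zAug (famMap Y))
  haveI h₂ : QuasiIso (AlternatingFaceMapComplex.ε.app (zAug (famMap Y))) :=
    Groth.Agent.S6161.result (⊥ : GrothendieckTopology C) (famMap Y)
  haveI : QuasiIso π := (quasiIso_iff_comp_left _ _).2 h₂
  exact nonempty_evalCx_homology_iso (X := X) ⟨M, Presheaf.isSheaf_bot _⟩ (fam Y).cech π q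

end Groth.Agent.SiteCoh
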