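import Groth.Agent.SiteCoh.CohPresheaf
import Groth.Agent.GabLocLib.Hull
import Groth.Prelude.Def_CohCx
import Mathlib.Algebra.Homology.ShortComplex.ExactFunctor

/-! # Baer criterion with free sheaves -/

set_option autoImplicit false
set_option linter.all false
set_option backward.isDefEq.respectTransparency false
set_option backward.defeqAttrib.useBackward true

noncomputable section

universe u

open CategoryTheory CategoryTheory.Limits Opposite

namespace Groth.Agent.SiteCoh

variable {C : Type u} [SmallCategory C] {J : GrothendieckTopology C}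

theorem injective_of_free (I : Sheaf J AddCommGrpCat.{u})
    (h : ∀ (X : C) (S : Sheaf J AddCommGrpCat.{u}) (i : S ⟶ free X) [Mono i] (φ : S ⟶ I),
      ∃ ψ : free X ⟶ I, i ≫ ψ = φ) : Injective I := by
  obtain ⟨E, k, -, hE, hk, -, -, hess⟩ := GabLocLib.exists_hull_in (Injective.ι I)
  suffices hs : ∀ (X : C) (f : free X ⟶ E), ∃ a, a ≫ k = f by
    haveI : ∀ V : Cᵒᵖ, IsIso (k.hom.app V) := fun V => by
      rw [ConcreteCategory.isIso_iff_bijective]
      constructor
      · intro a b hab
        obtain ⟨a, rfl⟩ := (secEquiv I V.unop).surjective a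
        obtain ⟨b, rfl⟩ := (secEquiv I V.unop).surjective b
        exact congrArg _ ((cancel_mono k).1 ((secEquiv E V.unop).injective hab))
      · intro s
        obtain ⟨f, rfl⟩ := (secEquiv E V.unop).surjective s
        obtain ⟨a, rfl⟩ := hs V.unop f
        exact ⟨secEquiv I V.unop a, rfl⟩
    haveI : IsIso ((sheafToPresheaf J AddCommGrpCat.{u}).map k) := NatIso.isIso_of_isIso_app k.hom
    haveI : IsIso k := isIso_of_reflects_iso k (sheafToPresheaf J AddCommGrpCat.{u})
    exact Injective.of_iso (asIso k).symm hE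
  intro X f
  obtain ⟨ψ, hψ⟩ := h X (pullback k f) (pullback.snd k f) (pullback.fst k f)
  let f' := f - ψ ≫ k
  refine ⟨ψ, ?_⟩
  haveI : Mono (k ≫ cokernel.π f') := Preadditive.mono_of_cancel_zero _ fun {A} z hz => by
    let T := ShortComplex.mk f' (cokernel.π f') (cokernel.condition f')
    have hT : T.Exact := ShortComplex.exact_of_g_is_cokernel _ (cokernelIsCokernel f')
    obtain ⟨A', p, _, y, hy⟩ := hT.exact_up_to_refinements (z ≫ k) (by rw [Category.assoc]; exact hz)
    change p ≫ z ≫ k = y ≫ (f - ψ ≫ k) at hy
    have hy' : (p ≫ z + y ≫ ψ) ≫ k = y ≫ f := by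
      rw [Preadditive.add_comp, Category.assoc, hy]
      simp
    have h1 : pullback.lift _ y hy' ≫ pullback.fst k f = p ≫ z + y ≫ ψ := pullback.lift_fst _ _ _
    rw [← hψ, ← Category.assoc, pullback.lift_snd] at h1
    rw [← cancel_epi p, comp_zero]
    exact left_eq_add.1 (h1.trans (add_comm _ _))
  haveI : Mono (cokernel.π f') := hess _ inferInstance
  have : f' = 0 := zero_of_comp_mono (cokernel.π f') (cokernel.condition f')
  exact (sub_eq_zero.1 this).symm

end Groth.Agent.SiteCoh
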