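import Groth.Agent.SiteCoh.OverExact

/-! # Exactness of extension by zero along functors preserving pullbacks and equalizers -/

set_option autoImplicit false
set_option linter.all false

universe u

open CategoryTheory CategoryTheory.Limits Opposite

namespace Groth.Agent.SiteCoh.LanExact

variable {I : Type u} [SmallCategory I]

theorem isFilteredOrEmpty_component (hspan : ∀ ⦃x y z : I⦄ (f : x ⟶ y) (g : x ⟶ z), ∃ (w : I), Nonempty (y ⟶ w) ∧ Nonempty (z ⟶ w))
    (hcoeq : ∀ ⦃x y : I⦄ (f g : x ⟶ y), ∃ (w : I) (h : y ⟶ w), f ≫ h = g ≫ h) (j : CategoryTheory.ConnectedComponents I) :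
    IsFilteredOrEmpty j.Component := by
  have key : ∀ a b : I, Zigzag a b → ∃ c, Nonempty (a ⟶ c) ∧ Nonempty (b ⟶ c) := by
    intro a b h
    induction h with
    | refl => exact ⟨a, ⟨𝟙 a⟩, ⟨𝟙 a⟩⟩
    | tail _ hz ih =>
      obtain ⟨c, ⟨p⟩, ⟨q⟩⟩ := ih
      rcases hz with ⟨⟨f⟩⟩ | ⟨⟨f⟩⟩
      · obtain ⟨w, ⟨r⟩, ⟨s⟩⟩ := hspan q f
        exact ⟨w, ⟨p ≫ r⟩, ⟨s⟩⟩
      · exact ⟨c, ⟨p⟩, ⟨f ≫ q⟩⟩
  constructor
  · rintro ⟨a, ha⟩ ⟨b, hb⟩
    obtain ⟨c, ⟨p⟩, ⟨q⟩⟩ := key a b (Quotient.exact' (ha.trans hb.symm))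
    exact ⟨⟨c, (Quotient.sound' (Zigzag.of_hom p)).symm.trans ha⟩, ObjectProperty.homMk p, ObjectProperty.homMk q, trivial⟩
  · rintro ⟨a, ha⟩ ⟨b, hb⟩ f g
    obtain ⟨w, h, hw⟩ := hcoeq f.hom g.hom
    exact ⟨⟨w, (Quotient.sound' (Zigzag.of_hom h)).symm.trans hb⟩, ObjectProperty.homMk h, ObjectProperty.hom_ext _ hw⟩

theorem colimMap_mono (hfil : ∀ j : CategoryTheory.ConnectedComponents I, IsFilteredOrEmpty j.Component)
    {K L : I ⥤ AddCommGrpCat.{u}} (φ : K ⟶ L) [∀ x, Mono (φ.app x)] : Mono (colimMap φ) := by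
  haveI := hfil
  haveI : ∀ j : CategoryTheory.ConnectedComponents I, IsFiltered j.Component := fun j => ⟨⟩
  let res := fun (M : I ⥤ AddCommGrpCat.{u}) (j : CategoryTheory.ConnectedComponents I) => j.ι ⋙ M
  let S := fun M : I ⥤ AddCommGrpCat.{u} => ∐ fun j => colimit (res M j)
  let pm : ∀ (M : I ⥤ AddCommGrpCat.{u}) (j : CategoryTheory.ConnectedComponents I) (x : I) (h : CategoryTheory.ConnectedComponents.mk x = j),
      M.obj x ⟶ S M := fun M j x h => colimit.ι (res M j) ⟨x, h⟩ ≫ Sigma.ι (fun j => colimit (res M j)) j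
  have hp : ∀ (M : I ⥤ AddCommGrpCat.{u}) (j : CategoryTheory.ConnectedComponents I) (x : I) (h : CategoryTheory.ConnectedComponents.mk x = j),
      pm M (CategoryTheory.ConnectedComponents.mk x) x rfl = pm M j x h := fun M j x h => by subst h; rfl
  let toS : ∀ M : I ⥤ AddCommGrpCat.{u}, colimit M ⟶ S M := fun M => colimit.desc M (Cocone.mk (S M)
    { app := fun x => pm M (CategoryTheory.ConnectedComponents.mk x) x rfl
      naturality := fun x y f => by
        show M.map f ≫ pm M (CategoryTheory.ConnectedComponents.mk y) y rfl = pm M (CategoryTheory.ConnectedComponents.mk x) x rfl ≫ 𝟙 _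
        rw [Category.comp_id, hp M (CategoryTheory.ConnectedComponents.mk x) y (Quotient.sound' (Zigzag.of_hom f)).symm]
        simp only [pm]
        rw [← Category.assoc]
        exact congrArg (· ≫ Sigma.ι (fun j => colimit (res M j)) _)
          (colimit.w (res M (CategoryTheory.ConnectedComponents.mk x)) (ObjectProperty.homMk f : (⟨x, rfl⟩ : (CategoryTheory.ConnectedComponents.mk x).Component) ⟶ ⟨y, (Quotient.sound' (Zigzag.of_hom f)).symm⟩)) })
  let fromS : ∀ M : I ⥤ AddCommGrpCat.{u}, S M ⟶ colimit M := fun M =>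
    Sigma.desc fun j => colimit.pre M j.ι
  have h1 : ∀ M, toS M ≫ fromS M = 𝟙 _ := fun M => colimit.hom_ext fun x => by
    simp only [toS, colimit.ι_desc_assoc, Category.comp_id]
    simp only [pm, fromS, Category.assoc, Sigma.ι_desc]
    exact colimit.ι_pre M _ _
  let Φ := Limits.Sigma.map (fun j => colimMap (Functor.whiskerLeft j.ι φ : res K j ⟶ res L j))
  have h2 : colimMap φ ≫ toS L = toS K ≫ Φ := colimit.hom_ext fun x => by
    simp only [toS, ι_colimMap_assoc, colimit.ι_desc, colimit.ι_desc_assoc]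
    simp [pm, Φ, res]
  haveI : ∀ j : CategoryTheory.ConnectedComponents I, Mono (colimMap (Functor.whiskerLeft j.ι φ : res K j ⟶ res L j)) := fun j => by
    haveI : ∀ y, Mono ((Functor.whiskerLeft j.ι φ : res K j ⟶ res L j).app y) := fun y => inferInstanceAs (Mono (φ.app y.1))
    haveI := NatTrans.mono_of_mono_app (Functor.whiskerLeft j.ι φ : res K j ⟶ res L j)
    exact (colim : (j.Component ⥤ AddCommGrpCat.{u}) ⥤ _).map_mono _
  haveI : Mono Φ := by
    haveI : ∀ y : Discrete (CategoryTheory.ConnectedComponents I), Mono ((Discrete.natTrans (fun y => colimMap (Functor.whiskerLeft y.as.ι φ : res K y.as ⟶ res L y.as)) :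
        Discrete.functor (fun j => colimit (res K j)) ⟶ Discrete.functor (fun j => colimit (res L j))).app y) := fun y => by
      show Mono (colimMap _)
      infer_instance
    haveI := NatTrans.mono_of_mono_app (Discrete.natTrans (fun y => colimMap (Functor.whiskerLeft y.as.ι φ : res K y.as ⟶ res L y.as)) :
        Discrete.functor (fun j => colimit (res K j)) ⟶ Discrete.functor (fun j => colimit (res L j)))
    exact (colim : (Discrete (CategoryTheory.ConnectedComponents I) ⥤ AddCommGrpCat.{u}) ⥤ _).map_mono _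
  haveI : IsSplitMono (toS K) := IsSplitMono.mk' ⟨fromS K, h1 K⟩
  haveI : Mono (colimMap φ ≫ toS L) := h2 ▸ mono_comp _ _
  exact mono_of_mono _ (toS L)

variable {C D : Type u} [SmallCategory C] [SmallCategory D] (v : C ⥤ D) [HasPullbacks C] [HasEqualizers C]
  [PreservesLimitsOfShape WalkingCospan v] [PreservesLimitsOfShape WalkingParallelPair v]

theorem costructured_component (d : D) (j : CategoryTheory.ConnectedComponents (CostructuredArrow v.op (op d))) :
    IsFilteredOrEmpty j.Component := by
  apply isFilteredOrEmpty_component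
  · intro x y z f g
    have hf : y.hom.unop ≫ v.map f.left.unop = x.hom.unop := congrArg Quiver.Hom.unop (CostructuredArrow.w f)
    have hg : z.hom.unop ≫ v.map g.left.unop = x.hom.unop := congrArg Quiver.Hom.unop (CostructuredArrow.w g)
    have hP := (IsPullback.of_hasPullback f.left.unop g.left.unop).map v
    let h := hP.lift y.hom.unop z.hom.unop (hf.trans hg.symm)
    exact ⟨CostructuredArrow.mk (S := v.op) (Y := op (pullback f.left.unop g.left.unop)) h.op,
      ⟨CostructuredArrow.homMk (pullback.fst f.left.unop g.left.unop).op (Quiver.Hom.unop_inj (hP.lift_fst _ _ _))⟩,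
      ⟨CostructuredArrow.homMk (pullback.snd f.left.unop g.left.unop).op (Quiver.Hom.unop_inj (hP.lift_snd _ _ _))⟩⟩
  · intro x y f g
    have hf : y.hom.unop ≫ v.map f.left.unop = x.hom.unop := congrArg Quiver.Hom.unop (CostructuredArrow.w f)
    have hg : y.hom.unop ≫ v.map g.left.unop = x.hom.unop := congrArg Quiver.Hom.unop (CostructuredArrow.w g)
    let hE := isLimitOfHasEqualizerOfPreservesLimit v f.left.unop g.left.unop
    let h := Fork.IsLimit.lift hE y.hom.unop (hf.trans hg.symm)
    refine ⟨CostructuredArrow.mk (S := v.op) (Y := op (equalizer f.left.unop g.left.unop)) h.op,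
      CostructuredArrow.homMk (equalizer.ι f.left.unop g.left.unop).op (Quiver.Hom.unop_inj (Fork.IsLimit.lift_ι' hE _ _)), ?_⟩
    exact CostructuredArrow.hom_ext _ _ (Quiver.Hom.unop_inj (equalizer.condition _ _))

theorem sheafPullback_preservesFiniteLimits (J : GrothendieckTopology C) (K : GrothendieckTopology D) [v.IsContinuous J K] :
    PreservesFiniteLimits (v.sheafPullback AddCommGrpCat.{u} J K) := by
  haveI : (v.op.lan : (Cᵒᵖ ⥤ AddCommGrpCat.{u}) ⥤ _).PreservesMonomorphisms := ⟨fun {P Q} f _ => by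
    haveI : ∀ V : Dᵒᵖ, Mono ((v.op.lan.map f).app V) := by
      rintro ⟨V⟩
      haveI : ∀ x, Mono ((Functor.whiskerLeft (CostructuredArrow.proj v.op (op V)) f).app x) := fun x => by
        show Mono (f.app _)
        infer_instance
      exact OverExact.mono_map_of_natIso (lanEvaluationIsoColim (E := AddCommGrpCat.{u}) v.op (op V)).symm f
        (colimMap_mono (costructured_component v V) _)
    exact NatTrans.mono_of_mono_app _⟩
  let adj := v.sheafAdjunctionContinuous AddCommGrpCat.{u} J K
  haveI := adj.leftAdjoint_preservesColimits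
  haveI : (sheafToPresheaf J AddCommGrpCat.{u}).PreservesMonomorphisms :=
    Functor.preservesMonomorphisms_of_adjunction (sheafificationAdjunction _ _)
  haveI : (presheafToSheaf K AddCommGrpCat.{u}).PreservesMonomorphisms :=
    preservesMonomorphisms_of_preservesLimitsOfShape _
  haveI : (Functor.sheafPullbackConstruction.sheafPullback v AddCommGrpCat.{u} J K).PreservesMonomorphisms := by
    unfold Functor.sheafPullbackConstruction.sheafPullback
    infer_instance
  haveI : (v.sheafPullback AddCommGrpCat.{u} J K).PreservesMonomorphisms :=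
    Functor.PreservesMonomorphisms.of_iso
      (Functor.sheafPullbackConstruction.sheafPullbackIso v AddCommGrpCat.{u} J K).symm
  exact Groth.Agent.SiteBase.preservesFiniteLimits_of_preservesMono _

end Groth.Agent.SiteCoh.LanExact
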