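import Mathlib.CategoryTheory.Abelian.Projective.Ext
import Mathlib.Algebra.Homology.ShortComplex.Ab

/-! # `Ext` from a projective resolution, against an explicit cochain complex -/

universe w v u

open CategoryTheory CategoryTheory.Limits CategoryTheory.Abelian

namespace Groth.Agent.SiteCoh

variable {A : Type u} [Category.{v} A] [Abelian A] [HasExt.{w} A] {Z : A} (R : ProjectiveResolution Z) (M : A)

lemma extMk_proj_zero_iff (i n : ℕ) (hi : (ComplexShape.up ℕ).prev n = i)
    (f : R.complex.X n ⟶ M) (hf : R.complex.d (n + 1) n ≫ f = 0) :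
    R.extMk f (n + 1) rfl hf = 0 ↔ ∃ g : R.complex.X i ⟶ M, R.complex.d n i ≫ g = f := by
  obtain _ | p := n
  · subst hi
    rw [← R.extEquivCohomologyClass.apply_eq_iff_eq, ProjectiveResolution.extEquivCohomologyClass_extMk,
      ProjectiveResolution.extEquivCohomologyClass_zero, CochainComplex.HomComplex.CohomologyClass.mk_eq_zero_iff,
      CochainComplex.HomComplex.Cocycle.toSingleMk_mem_coboundaries_iff _ _ _ _ _ 1 (by simp)]
    have hd : R.complex.d 0 ((ComplexShape.up ℕ).prev 0) = 0 := R.complex.shape _ _ (by simp)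
    constructor
    · rintro ⟨g, hg⟩
      refine ⟨0, ?_⟩
      rw [(R.cochainComplex.isZero_of_isStrictlyLE 0 1).eq_of_src g 0, comp_zero] at hg
      rw [comp_zero, ← cancel_epi (R.cochainComplexXIso 0 0 rfl).hom, comp_zero]
      exact hg
    · rintro ⟨g, rfl⟩
      exact ⟨0, by simp [hd]⟩
  · obtain rfl : p = i := by rw [← hi, CochainComplex.prev_nat_succ]
    exact R.extMk_eq_zero_iff _ _ rfl _ p rfl

/-- A cochain complex of groups which is degreewise `Hom(P_n, M)` computes `Ext(Z, M)`. -/
theorem nonempty_homology_iso_ext (L : CochainComplex AddCommGrpCat.{w} ℕ)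
    (e : ∀ n, (R.complex.X n ⟶ M) ≃+ L.X n)
    (he : ∀ i n (φ : R.complex.X i ⟶ M), (ComplexShape.up ℕ).Rel i n →
      e n (R.complex.d n i ≫ φ) = L.d i n (e i φ)) (n : ℕ) :
    Nonempty (L.homology n ≅ AddCommGrpCat.of (Ext.{w} Z M n)) := by
  let T := L.sc' ((ComplexShape.up ℕ).prev n) n (n + 1)
  have hcyc : ∀ x : AddMonoidHom.ker T.g.hom, R.complex.d (n + 1) n ≫ (e n).symm x.1 = 0 := fun x => by
    apply (e (n + 1)).injective
    rw [he n (n + 1) _ (by simp), AddEquiv.apply_symm_apply, map_zero]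
    exact x.2
  let φ : AddMonoidHom.ker T.g.hom →+ Ext.{w} Z M n :=
    AddMonoidHom.mk' (fun x => R.extMk ((e n).symm x.1) (n + 1) rfl (hcyc x))
      fun x y => by
        rw [R.add_extMk _ _ (n + 1) rfl (hcyc x) (hcyc y)]
        congr 1
        exact map_add (e n).symm x.1 y.1
  have hφ : Function.Surjective φ := fun α => by
    obtain ⟨f, hf, rfl⟩ := R.extMk_surjective α (n + 1) rfl
    refine ⟨⟨e n f, ?_⟩, ?_⟩
    · show L.d n (n + 1) (e n f) = 0
      rw [← he n (n + 1) f (by simp), hf, map_zero]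
    · show R.extMk ((e n).symm (e n f)) (n + 1) rfl (by rw [AddEquiv.symm_apply_apply]; exact hf) = _
      congr 1
      exact AddEquiv.symm_apply_apply _ _
  have hker : φ.ker = AddMonoidHom.range T.abToCycles := by
    ext x
    rw [AddMonoidHom.mem_ker, AddMonoidHom.mem_range]
    refine (extMk_proj_zero_iff R M _ n rfl _ (hcyc x)).trans ?_
    by_cases h : (ComplexShape.up ℕ).Rel ((ComplexShape.up ℕ).prev n) n
    · constructor
      · rintro ⟨g, hg⟩
        refine ⟨e _ g, Subtype.ext ?_⟩
        show L.d _ n (e _ g) = x.1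
        rw [← he _ n g h, hg, AddEquiv.apply_symm_apply]
      · rintro ⟨g, hg⟩
        refine ⟨(e _).symm g, ?_⟩
        apply (e n).injective
        rw [he _ n _ h, AddEquiv.apply_symm_apply, AddEquiv.apply_symm_apply]
        exact congrArg Subtype.val hg
    · constructor
      · rintro ⟨g, hg⟩
        rw [R.complex.shape _ _ h, zero_comp] at hg
        refine ⟨0, ?_⟩
        rw [map_zero]
        exact Subtype.ext ((e n).symm.map_eq_zero_iff.1 hg.symm).symm
      · rintro ⟨g, hg⟩
        refine ⟨0, ?_⟩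
        have hx : L.d _ n g = x.1 := congrArg Subtype.val hg
        rw [L.shape _ _ h] at hx
        rw [comp_zero, ← hx]
        exact (map_zero _).symm
  exact ⟨L.homologyIsoSc' _ n (n + 1) rfl (CochainComplex.next ℕ n) ≪≫ T.abHomologyIso ≪≫
    ((QuotientAddGroup.quotientAddEquivOfEq hker.symm).trans
      (QuotientAddGroup.quotientKerEquivOfSurjective φ hφ)).toAddCommGrpIso⟩

end Groth.Agent.SiteCoh
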