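import Groth.Agent.CohAcyc.ModFree
import Groth.Agent.SiteCoh.ExtProj
import Groth.Prelude.Def_CohCx
import Mathlib.CategoryTheory.Limits.Shapes.ConcreteCategory

/-! # Free presheaves on formal coproducts over an object -/

universe u

open CategoryTheory CategoryTheory.Limits CategoryTheory.Abelian Opposite AlgebraicTopology
open scoped Simplicial

namespace Groth.Agent.SiteCoh

open Groth.Agent.CohAcyc

variable {C : Type u} [SmallCategory C] {X : C}

/-- sheaves of sets for the trivial topology -/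
abbrev SetPre (C : Type u) [SmallCategory C] := Sheaf (⊥ : GrothendieckTopology C) (Type u)

/-- the underlying presheaf of points -/
def ptsPre (𝒰 : FormalCoproduct.{u} (Over X)) : Cᵒᵖ ⥤ Type u where
  obj V := Σ i, V.unop ⟶ (𝒰.obj i).left
  map g := ↾fun x => ⟨x.1, g.unop ≫ x.2⟩
  map_id V := ConcreteCategory.hom_ext _ _ fun ⟨i, h⟩ =>
    show (⟨i, 𝟙 _ ≫ h⟩ : Σ i, V.unop ⟶ (𝒰.obj i).left) = ⟨i, h⟩ by rw [Category.id_comp]
  map_comp {V V' V''} f g := ConcreteCategory.hom_ext _ _ fun ⟨i, h⟩ =>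
    show (⟨i, (g.unop ≫ f.unop) ≫ h⟩ : Σ i, V''.unop ⟶ (𝒰.obj i).left) = ⟨i, g.unop ≫ f.unop ≫ h⟩ by
      rw [Category.assoc]

/-- maps of points -/
def ptsPreMap {𝒰 𝒱 : FormalCoproduct.{u} (Over X)} (f : 𝒰 ⟶ 𝒱) : ptsPre 𝒰 ⟶ ptsPre 𝒱 where
  app V := ↾fun x => ⟨f.f x.1, x.2 ≫ (f.φ x.1).left⟩
  naturality {V W} g := ConcreteCategory.hom_ext _ _ fun ⟨i, h⟩ =>
    show (⟨f.f i, (g.unop ≫ h) ≫ (f.φ i).left⟩ : Σ i, W.unop ⟶ (𝒱.obj i).left) = ⟨f.f i, g.unop ≫ h ≫ (f.φ i).left⟩ by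
      rw [Category.assoc]

variable (X) in
/-- the presheaf of points of a formal coproduct over `X` -/
def pts : FormalCoproduct.{u} (Over X) ⥤ SetPre C where
  obj 𝒰 := ⟨ptsPre 𝒰, Presheaf.isSheaf_bot _⟩
  map f := ⟨ptsPreMap f⟩
  map_id 𝒰 := Sheaf.hom_ext (NatTrans.ext (funext fun V => ConcreteCategory.hom_ext _ _ fun ⟨i, h⟩ =>
    show (⟨i, h ≫ 𝟙 _⟩ : Σ i, V.unop ⟶ (𝒰.obj i).left) = ⟨i, h⟩ by rw [Category.comp_id]))
  map_comp {𝒰 𝒱 𝒲} f g := Sheaf.hom_ext (NatTrans.ext (funext fun V => ConcreteCategory.hom_ext _ _ fun ⟨i, h⟩ =>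
    show (⟨g.f (f.f i), h ≫ ((f.φ i).left ≫ (g.φ (f.f i)).left)⟩ : Σ i, V.unop ⟶ (𝒲.obj i).left) =
      ⟨g.f (f.f i), (h ≫ (f.φ i).left) ≫ (g.φ (f.f i)).left⟩ by rw [Category.assoc]))

/-- evaluating at the tautological points -/
def ptsVal (G : SetPre C) (𝒰 : FormalCoproduct.{u} (Over X)) (a : (pts X).obj 𝒰 ⟶ G) (i : 𝒰.I) :
    G.obj.obj (op (𝒰.obj i).left) :=
  a.hom.app (op (𝒰.obj i).left) (⟨i, 𝟙 _⟩ : Σ j, (𝒰.obj i).left ⟶ (𝒰.obj j).left)

lemma ptsVal_bijective (G : SetPre C) (𝒰 : FormalCoproduct.{u} (Over X)) :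
    Function.Bijective (ptsVal G 𝒰) := by
  refine ⟨fun a b h => ?_, fun s => ?_⟩
  · refine Sheaf.hom_ext (NatTrans.ext (funext fun V => ConcreteCategory.hom_ext _ _ fun ⟨i, g⟩ => ?_))
    have key : ∀ c : (pts X).obj 𝒰 ⟶ G,
        c.hom.app V (⟨i, g⟩ : Σ i, V.unop ⟶ (𝒰.obj i).left) = G.obj.map g.op (ptsVal G 𝒰 c i) := fun c => by
      refine Eq.trans ?_ (ConcreteCategory.congr_hom (c.hom.naturality g.op)
        (⟨i, 𝟙 _⟩ : Σ j, (𝒰.obj i).left ⟶ (𝒰.obj j).left))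
      exact congrArg (fun x => c.hom.app V (⟨i, x⟩ : Σ i, V.unop ⟶ (𝒰.obj i).left)) (Category.comp_id g).symm
    exact (key a).trans ((congrArg (G.obj.map g.op) (congrFun h i)).trans (key b).symm)
  · refine ⟨⟨{ app := fun V => ↾fun x => G.obj.map x.2.op (s x.1)
               naturality := fun V W g => ConcreteCategory.hom_ext _ _ fun ⟨i, h⟩ =>
                 ConcreteCategory.congr_hom (G.obj.map_comp h.op g) (s i) }⟩, funext fun i => ?_⟩
    exact ConcreteCategory.congr_hom (G.obj.map_id (op (𝒰.obj i).left)) (s i)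

lemma ptsVal_comp {G : SetPre C} {𝒰 𝒱 : FormalCoproduct.{u} (Over X)} (f : 𝒰 ⟶ 𝒱)
    (a : (pts X).obj 𝒱 ⟶ G) (i : 𝒰.I) :
    ptsVal G 𝒰 ((pts X).map f ≫ a) i = G.obj.map (f.φ i).left.op (ptsVal G 𝒱 a (f.f i)) := by
  refine Eq.trans ?_ (ConcreteCategory.congr_hom (a.hom.naturality (f.φ i).left.op)
    (⟨f.f i, 𝟙 _⟩ : Σ j, (𝒱.obj (f.f i)).left ⟶ (𝒱.obj j).left))
  exact congrArg (fun x => a.hom.app (op (𝒰.obj i).left) (⟨f.f i, x⟩ : Σ j, (𝒰.obj i).left ⟶ (𝒱.obj j).left))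
    ((Category.id_comp _).trans (Category.comp_id _).symm)

variable (P : Ab (⊥ : GrothendieckTopology C))

/-- values of a presheaf on a formal coproduct -/
noncomputable abbrev evalPre (𝒰 : FormalCoproduct.{u} (Over X)) : AddCommGrpCat.{u} :=
  ((FormalCoproduct.evalOp.{u} (Over X) AddCommGrpCat.{u}).obj ((Over.forget X).op ⋙ P.obj)).obj (op 𝒰)

/-- the tautological values of a map out of the free presheaf -/
noncomputable def preVal (𝒰 : FormalCoproduct.{u} (Over X)) :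
    ((zF (⊥ : GrothendieckTopology C)).obj ((pts X).obj 𝒰) ⟶ P) →+ ∀ i : 𝒰.I, P.obj.obj (op (𝒰.obj i).left) :=
  AddMonoidHom.mk' (fun φ => ptsVal _ 𝒰 ((zAdj _).homEquiv _ P φ))
    (fun φ ψ => funext fun i => zHom_add φ ψ _ _)

lemma preVal_bijective (𝒰 : FormalCoproduct.{u} (Over X)) : Function.Bijective (preVal P 𝒰) :=
  (ptsVal_bijective _ 𝒰).comp ((zAdj _).homEquiv _ P).bijective

/-- the components of a value -/
noncomputable def compVal (𝒰 : FormalCoproduct.{u} (Over X)) :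
    evalPre P 𝒰 →+ ∀ i : 𝒰.I, P.obj.obj (op (𝒰.obj i).left) :=
  AddMonoidHom.mk' (fun x i => Pi.π (fun i : 𝒰.I => P.obj.obj (op (𝒰.obj i).left)) i x)
    (fun _ _ => funext fun _ => map_add _ _ _)

lemma compVal_bijective (𝒰 : FormalCoproduct.{u} (Over X)) : Function.Bijective (compVal P 𝒰) := by
  let e := Concrete.productEquiv (fun i : 𝒰.I => P.obj.obj (op (𝒰.obj i).left))
  have he : ∀ x, compVal P 𝒰 x = e x := fun x =>
    funext fun i => (Concrete.productEquiv_apply_apply _ x i).symm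
  exact ⟨fun x y h => e.injective ((he x).symm.trans (h.trans (he y))),
    fun s => ⟨e.symm s, (he _).trans (e.apply_symm_apply s)⟩⟩

/-- maps out of the free presheaf are values -/
noncomputable def preEquiv (𝒰 : FormalCoproduct.{u} (Over X)) :
    ((zF (⊥ : GrothendieckTopology C)).obj ((pts X).obj 𝒰) ⟶ P) ≃+ evalPre P 𝒰 :=
  (AddEquiv.ofBijective _ (preVal_bijective P 𝒰)).trans (AddEquiv.ofBijective _ (compVal_bijective P 𝒰)).symm

lemma compVal_preEquiv (𝒰 : FormalCoproduct.{u} (Over X))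
    (φ : (zF (⊥ : GrothendieckTopology C)).obj ((pts X).obj 𝒰) ⟶ P) :
    compVal P 𝒰 (preEquiv P 𝒰 φ) = preVal P 𝒰 φ :=
  (AddEquiv.ofBijective _ (compVal_bijective P 𝒰)).apply_symm_apply _

lemma preEquiv_comp {𝒰 𝒱 : FormalCoproduct.{u} (Over X)} (f : 𝒰 ⟶ 𝒱)
    (φ : (zF (⊥ : GrothendieckTopology C)).obj ((pts X).obj 𝒱) ⟶ P) :
    preEquiv P 𝒰 ((zF _).map ((pts X).map f) ≫ φ) =
      ((FormalCoproduct.evalOp.{u} (Over X) AddCommGrpCat.{u}).obj ((Over.forget X).op ⋙ P.obj)).map f.op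
        (preEquiv P 𝒱 φ) := by
  apply (compVal_bijective P 𝒰).1
  rw [compVal_preEquiv]
  funext i
  refine Eq.trans (congrArg (fun m => ptsVal _ 𝒰 m i) ((zAdj _).homEquiv_naturality_left ((pts X).map f) φ)) ?_
  refine (ptsVal_comp f _ i).trans ?_
  refine Eq.trans (congrArg (fun v => P.obj.map (f.φ i).left.op (v (f.f i))) (compVal_preEquiv P 𝒱 φ).symm) ?_
  exact (ConcreteCategory.congr_hom (Pi.lift_π
    (fun i => Pi.π (fun j : 𝒱.I => P.obj.obj (op (𝒱.obj j).left)) (f.f i) ≫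
      P.obj.map (f.φ i).left.op) i) (preEquiv P 𝒱 φ)).symm

/-- free presheaves on formal coproducts are projective -/
theorem projective_zF_pts (𝒰 : FormalCoproduct.{u} (Over X)) :
    Projective ((zF (⊥ : GrothendieckTopology C)).obj ((pts X).obj 𝒰)) where
  factors {E Q} f e _ := by
    haveI : Epi e.hom := inferInstanceAs (Epi ((sheafBotEquivalence AddCommGrpCat.{u}).functor.map e))
    have hs : ∀ i, ∃ t : E.obj.obj (op (𝒰.obj i).left), e.hom.app _ t = preVal Q 𝒰 f i := fun i =>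
      (AddCommGrpCat.epi_iff_surjective _).1 (inferInstanceAs (Epi (e.hom.app (op (𝒰.obj i).left)))) _
    obtain ⟨t, ht⟩ := (preVal_bijective E 𝒰).2 (fun i => (hs i).choose)
    refine ⟨t, (preVal_bijective Q 𝒰).1 (funext fun i => ?_)⟩
    refine Eq.trans (congrArg (fun m => ptsVal _ 𝒰 m i) ((zAdj _).homEquiv_naturality_right t e)) ?_
    exact (congrArg (e.hom.app (op (𝒰.obj i).left)) (congrFun ht i)).trans (hs i).choose_spec

/-- the free complex of a simplicial formal coproduct -/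
noncomputable abbrev freeCx (E : SimplicialObject (FormalCoproduct.{u} (Over X))) :
    ChainComplex (Ab (⊥ : GrothendieckTopology C)) ℕ :=
  AlternatingFaceMapComplex.obj (((SimplicialObject.whiskering _ _).obj (pts X ⋙ zF _)).obj E)

/-- degreewise dual simplicial objects have dual alternating complexes -/
lemma alternating_dual {A : Type*} [Category* A] [Preadditive A] (S : SimplicialObject A)
    (T : CosimplicialObject AddCommGrpCat.{u}) (M : A) (e : ∀ n, (S.obj (op ⦋n⦌) ⟶ M) ≃+ T.obj ⦋n⦌)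
    (he : ∀ n (i : Fin (n + 2)) φ, e (n + 1) (S.δ i ≫ φ) = T.δ i (e n φ)) (n : ℕ) (φ : S.obj (op ⦋n⦌) ⟶ M) :
    e (n + 1) ((AlternatingFaceMapComplex.obj S).d (n + 1) n ≫ φ) =
      (AlternatingCofaceMapComplex.obj T).d n (n + 1) (e n φ) := by
  simp only [AlternatingCofaceMapComplex.obj, CochainComplex.of_d, AlternatingCofaceMapComplex.objD,
    AlternatingFaceMapComplex.obj, ChainComplex.of_d, AlternatingFaceMapComplex.objD,
    Preadditive.sum_comp, Preadditive.zsmul_comp, map_sum, map_zsmul, he]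
  exact (map_sum (AddMonoidHom.mk' (fun ψ : T.obj ⦋n⦌ ⟶ T.obj ⦋n + 1⦌ => ψ.hom (e n φ)) (fun _ _ => rfl))
    (fun i : Fin (n + 2) => (-1 : ℤ) ^ (i : ℕ) • T.δ i) Finset.univ).symm

/-- its dual is the complex of values -/
lemma preEquiv_d (E : SimplicialObject (FormalCoproduct.{u} (Over X))) (n : ℕ)
    (φ : (freeCx E).X n ⟶ P) :
    preEquiv P (E.obj (op ⦋n + 1⦌)) ((freeCx E).d (n + 1) n ≫ φ) =
      ((FormalCoproduct.cochainComplexFunctor E).obj ((Over.forget X).op ⋙ P.obj)).d n (n + 1)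
        (preEquiv P (E.obj (op ⦋n⦌)) φ) :=
  alternating_dual (((SimplicialObject.whiskering _ _).obj (pts X ⋙ zF _)).obj E)
    ((FormalCoproduct.cosimplicialObjectFunctor E).obj ((Over.forget X).op ⋙ P.obj)) P
    (fun m => preEquiv P (E.obj (op ⦋m⦌))) (fun m i ψ => preEquiv_comp P (E.δ i) ψ) n φ

/-- A simplicial formal coproduct resolving `Z` computes `Ext(Z, -)` on presheaves. -/
theorem nonempty_evalCx_homology_iso (E : SimplicialObject (FormalCoproduct.{u} (Over X)))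
    {Z : Ab (⊥ : GrothendieckTopology C)} (π : freeCx E ⟶ (ChainComplex.single₀ _).obj Z) [QuasiIso π] (q : ℕ) :
    Nonempty (((FormalCoproduct.cochainComplexFunctor E).obj ((Over.forget X).op ⋙ P.obj)).homology q ≅
      AddCommGrpCat.of (Ext Z P q)) := by
  let R : ProjectiveResolution Z :=
    { complex := freeCx E, π := π, projective := fun n => projective_zF_pts (E.obj (op ⦋n⦌)) }
  refine nonempty_homology_iso_ext R P ((FormalCoproduct.cochainComplexFunctor E).obj ((Over.forget X).op ⋙ P.obj))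
    (fun n => preEquiv P (E.obj (op ⦋n⦌))) (fun i n φ h => ?_) q
  obtain rfl : i + 1 = n := h
  exact preEquiv_d P E i φ

end Groth.Agent.SiteCoh
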